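import Cfsg.Agent.Lib.Helper90.Biset.Count
import Cfsg.Agent.Lib.Helper40.CycleCount2

set_option autoImplicit false
set_option linter.style.haveILetI false

namespace Cfsg.Agent.Lib.Helper90.Cyc

/-- A weighted product of cycle products of multiplicative labels is a homomorphism. -/
theorem exists_hom_cyc {G : Type*} {A : Type*} {ι : Type*} [Group G] [Finite G] [CommGroup A]
    [Fintype ι] (Q : ι → Subgroup G) (ψ : ι → G → A) (c : ι → ℕ)
    (hmul : ∀ i, c i ≠ 0 → ∀ r ∈ Q i, ∀ r' ∈ Q i, ψ i (r * r') = ψ i r * ψ i r') :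
    ∃ τ : G →* A, ∀ y, τ y = ∏ i, cyc (Q i) (ψ i) y ^ c i := by
  classical
  let t : ι → (G →* A) := fun i =>
    if h : c i ≠ 0 then
      MonoidHom.transfer (MonoidHom.mk' (fun r : Q i => ψ i r)
        (fun r r' => hmul i h r r.2 r' r'.2))
    else 1
  refine ⟨∏ i, t i ^ c i, fun y => ?_⟩
  rw [MonoidHom.finsetProd_apply]
  apply Finset.prod_congr rfl
  intro i _
  rw [MonoidHom.pow_apply]
  by_cases h : c i ≠ 0
  · congr 1
    show (if h : c i ≠ 0 then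
      MonoidHom.transfer (MonoidHom.mk' (fun r : Q i => ψ i r)
        (fun r r' => hmul i h r r.2 r' r'.2))
    else 1) y = _
    rw [dif_pos h]
    exact transfer_eq_cyc (Q i) _ (ψ i) (fun g hg => rfl) y
  · rw [not_not] at h
    rw [h, pow_zero, pow_zero]

end Cfsg.Agent.Lib.Helper90.Cyc

namespace Cfsg.Agent.Lib.Helper90.Biset

open Cfsg Cfsg.FusionSystem Cfsg.Agent.Lib.Helper87 Cfsg.Agent.Lib.Helper90.Marks

variable {Ω : Type*} [Group Ω] {S : Subgroup Ω}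

/-- The value `phi D (u⁻¹ z u)` is the image of `z` under a map of the system. -/
theorem IsTw.exists_mor_conj {F : FusionSystem S} {D : Subgroup (↥S × ↥S)} (h : IsTw F D)
    (z u : ↥S) (hz : u⁻¹ * z * u ∈ Qf D) :
    ∃ f : Ω → Ω, Mor F (Subgroup.zpowers (z : Ω)) f ∧ f z = phi D (u⁻¹ * z * u) := by
  obtain ⟨b, hb, hb'⟩ := h.exists_mor
  have hzS : Subgroup.zpowers (z : Ω) ≤ S := by
    rw [Subgroup.zpowers_le]; exact z.2
  have h1 : Mor F (Subgroup.zpowers (z : Ω)) (fun x => (u : Ω)⁻¹ * x * ((u : Ω)⁻¹)⁻¹) :=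
    mor_conj F hzS (S.inv_mem u.2)
  have h2 : ∀ x ∈ Subgroup.zpowers (z : Ω),
      (fun x => (u : Ω)⁻¹ * x * ((u : Ω)⁻¹)⁻¹) x ∈ (Qf D).map S.subtype := by
    rintro _ ⟨n, rfl⟩
    refine ⟨(u⁻¹ * z * u) ^ n, (Qf D).zpow_mem hz n, ?_⟩
    show (((u⁻¹ * z * u) ^ n : ↥S) : Ω) = (u : Ω)⁻¹ * (z : Ω) ^ n * ((u : Ω)⁻¹)⁻¹
    rw [inv_inv]
    have : (((u⁻¹ * z * u) ^ n : ↥S) : Ω) = ((u : Ω)⁻¹ * z * u) ^ n := by simp
    rw [this]
    have h3 := conj_zpow (a := (u : Ω)⁻¹) (b := (z : Ω)) (i := n)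
    rw [inv_inv] at h3
    exact h3
  refine ⟨_, h1.comp hb h2, ?_⟩
  show b ((u : Ω)⁻¹ * z * ((u : Ω)⁻¹)⁻¹) = _
  rw [inv_inv]
  exact hb' _ hz

/-- **The transfer lemma.** An element of the focal subgroup all of whose powers are fixed modulo
`S'` by the maps of the system lies in `S'`. -/
theorem mem_commutator_of_focal [Finite S] {p : ℕ} [Fact p.Prime] (hS : IsPGroup p S)
    (F : FusionSystem S) (hF : F.IsSaturated p) (x : Ω) (hxS : x ∈ S)
    (hx : ∀ (k : ℕ) (f : Ω → Ω), Mor F (Subgroup.zpowers (x ^ k)) f →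
      (x ^ k)⁻¹ * f (x ^ k) ∈ ⁅S, S⁆)
    (hfoc : x ∈ F.focalSubgroup) : x ∈ ⁅S, S⁆ := by
  classical
  haveI : Fintype (Subgroup (↥S × ↥S)) := Fintype.ofFinite _
  obtain ⟨c, hc, hdeg, hst⟩ := exists_biset hS F hF
  let lab : ↥S →* Abelianization ↥S := Abelianization.of
  have hker : ∀ z : ↥S, lab z = 1 ↔ (z : Ω) ∈ ⁅S, S⁆ := by
    intro z
    rw [← Subgroup.map_subtype_commutator]
    have h1 : lab z = 1 ↔ z ∈ commutator ↥S := by
      rw [← MonoidHom.mem_ker]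
      show z ∈ (Abelianization.of : ↥S →* Abelianization ↥S).ker ↔ _
      rw [Abelianization.ker_of]
    rw [h1]
    constructor
    · intro h; exact ⟨z, h, rfl⟩
    · rintro ⟨z', h, h'⟩
      have : z' = z := Subtype.ext h'
      rwa [← this]
  obtain ⟨τ, hτ⟩ := Cyc.exists_hom_cyc (fun D : Subgroup (↥S × ↥S) => Qf D)
    (fun D => lab ∘ phi D) c (by
      intro D hD r hr r' hr'
      show lab (phi D (r * r')) = lab (phi D r) * lab (phi D r')
      rw [(hc D hD).phi_mul hr hr', map_mul])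
  -- stability
  have hstab : ∀ (y y' : ↥S) (V : Subgroup Ω) (ϑ : Ω → Ω), Mor F V ϑ → (y : Ω) ∈ V →
      ϑ y = y' → τ y = τ y' := by
    intro y y' V ϑ hϑ hy hyy'
    rw [hτ, hτ]
    exact stab c hc hst lab ⊤ (fun _ _ _ _ _ => Subgroup.mem_top _)
      (fun h _ h' _ => map_mul lab h h')
      (fun h _ v => by rw [map_mul, map_mul, map_inv, mul_comm, inv_mul_cancel_left])
      y y' (Subgroup.mem_top _) (Subgroup.mem_top _) hϑ hy hyy'
  -- the focal subgroup is killed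
  have hfk : F.focalSubgroup ≤ τ.ker.map S.subtype := by
    unfold FusionSystem.focalSubgroup
    rw [Subgroup.closure_le]
    rintro _ ⟨P, φ, y, hφ, rfl⟩
    have hyS : (y : Ω) ∈ S := (F.le_of_mem hφ).1 y.2
    have hyS' : φ y ∈ S := (F.le_of_mem hφ).2 y
    refine ⟨(⟨y, hyS⟩ : ↥S)⁻¹ * ⟨φ y, hyS'⟩, ?_, rfl⟩
    show τ _ = 1
    rw [map_mul, map_inv, hstab ⟨y, hyS⟩ ⟨φ y, hyS'⟩ P (ext φ) (Mor.of_hom hφ) y.2 (ext_coe φ y),
      inv_mul_cancel]
  obtain ⟨x', hx', hxx'⟩ := hfk hfoc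
  have hx'1 : τ ⟨x, hxS⟩ = 1 := by
    have : x' = ⟨x, hxS⟩ := Subtype.ext hxx'
    rw [← this]; exact hx'
  -- evaluation
  have heval : τ ⟨x, hxS⟩ = lab ⟨x, hxS⟩ ^ (∑ D, c D * (D.map (MonoidHom.fst ↥S ↥S)).index) := by
    rw [hτ, ← Finset.prod_pow_eq_pow_sum]
    apply Finset.prod_congr rfl
    intro D _
    by_cases hD : c D = 0
    · rw [hD, pow_zero, zero_mul, pow_zero]
    rw [mul_comm (c D), pow_mul]
    congr 1
    apply Cfsg.Agent.Lib.Helper40.cyc_eq_pow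
    intro k u hu
    obtain ⟨f, hf, hf'⟩ := (hc D hD).exists_mor_conj ((⟨x, hxS⟩ : ↥S) ^ k) u hu
    have h1 := hx k f hf
    have h2 : f (x ^ k) = phi D (u⁻¹ * (⟨x, hxS⟩ : ↥S) ^ k * u) := hf'
    rw [h2] at h1
    have h3 : lab (((⟨x, hxS⟩ : ↥S) ^ k)⁻¹ * phi D (u⁻¹ * (⟨x, hxS⟩ : ↥S) ^ k * u)) = 1 :=
      (hker _).2 h1
    rw [map_mul, map_inv, inv_mul_eq_one, map_pow] at h3
    exact h3.symm
  rw [heval] at hx'1
  have hA : IsPGroup p (Abelianization ↥S) := hS.of_surjective lab (QuotientGroup.mk_surjective (s := commutator ↥S))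
  obtain ⟨j, hj⟩ := hA (lab ⟨x, hxS⟩)
  have h1 := orderOf_dvd_of_pow_eq_one hx'1
  have h2 := orderOf_dvd_of_pow_eq_one hj
  have hcop : Nat.Coprime (p ^ j) (∑ D, c D * (D.map (MonoidHom.fst ↥S ↥S)).index) :=
    Nat.Coprime.pow_left _ ((Nat.Prime.coprime_iff_not_dvd Fact.out).2 hdeg)
  have h3 : orderOf (lab ⟨x, hxS⟩) = 1 := Nat.eq_one_of_dvd_coprimes hcop h2 h1
  exact (hker ⟨x, hxS⟩).1 (orderOf_eq_one_iff.1 h3)

end Cfsg.Agent.Lib.Helper90.Biset
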