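import Cfsg.Agent.Lib.Helper90.Biset.Marks
import Mathlib.GroupTheory.GroupAction.Quotient
import Mathlib.GroupTheory.GroupAction.SubMulAction
import Mathlib.Tactic

set_option autoImplicit false
set_option linter.style.haveILetI false

namespace Cfsg.Agent.Lib.Helper90.Marks

open MulAction

variable {Γ : Type*} [Group Γ]

theorem mk_eq (D E : Subgroup Γ) :
    mk D E = Nat.card {x : Γ ⧸ D // ∀ e ∈ E, e • x = x} := by
  rw [mk]
  apply Nat.card_congr
  refine Equiv.subtypeEquivRight (fun x => ?_)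
  rw [mem_fixedPoints]
  exact ⟨fun h e he => h ⟨e, he⟩, fun h e => h e.1 e.2⟩

/-- Cauchy-Frobenius on the fixed points of a normal subgroup. -/
theorem burnside_normal {N X : Type*} [Group N] [Fintype N] [MulAction N X] [Finite X]
    (E : Subgroup N) [hE : E.Normal] :
    Fintype.card N ∣ ∑ n : N, Nat.card {x : X // ∀ l ∈ E ⊔ Subgroup.zpowers n, l • x = x} := by
  classical
  let Y : SubMulAction N X :=
    { carrier := {x | ∀ e ∈ E, e • x = x}
      smul_mem' := by
        intro n x hx e he
        have h1 : n⁻¹ * e * n ∈ E := by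
          have := hE.conj_mem e he n⁻¹
          rwa [inv_inv] at this
        have h2 := hx _ h1
        calc e • n • x = n • (n⁻¹ * e * n) • x := by
              rw [smul_smul, smul_smul]; congr 1; group
          _ = n • x := by rw [h2] }
  haveI : Fintype Y := Fintype.ofFinite _
  have key := MulAction.sum_card_fixedBy_eq_card_orbits_mul_card_group N Y
  have h3 : ∀ n : N, Nat.card {x : X // ∀ l ∈ E ⊔ Subgroup.zpowers n, l • x = x}
      = Fintype.card (fixedBy Y n) := by
    intro n
    rw [← Nat.card_eq_fintype_card]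
    apply Nat.card_congr
    have hiff : ∀ x : X, (∀ l ∈ E ⊔ Subgroup.zpowers n, l • x = x) ↔
        (∀ e ∈ E, e • x = x) ∧ n • x = x := by
      intro x
      have h4 : (∀ l ∈ E ⊔ Subgroup.zpowers n, l • x = x) ↔
          E ⊔ Subgroup.zpowers n ≤ stabilizer N x := Iff.rfl
      rw [h4, sup_le_iff, Subgroup.zpowers_le]
      exact Iff.rfl
    exact
      { toFun := fun x => ⟨⟨x.1, ((hiff x.1).1 x.2).1⟩, by
          rw [mem_fixedBy]
          apply Subtype.ext
          exact ((hiff x.1).1 x.2).2⟩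
        invFun := fun y => ⟨y.1.1, (hiff y.1.1).2 ⟨y.1.2, by
          have := y.2
          rw [mem_fixedBy] at this
          exact congrArg Subtype.val this⟩⟩
        left_inv := fun x => rfl
        right_inv := fun y => rfl }
  rw [Finset.sum_congr rfl (fun n _ => h3 n), key]
  exact Dvd.intro_left _ rfl

/-- Cauchy-Frobenius for marks. -/
theorem burnside_mk [Finite Γ] {N : Type*} [Group N] [Fintype N] (j : N →* Γ)
    (E : Subgroup N) [E.Normal] (D : Subgroup Γ) :
    Fintype.card N ∣ ∑ n : N, mk D ((E ⊔ Subgroup.zpowers n).map j) := by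
  letI : MulAction N (Γ ⧸ D) := MulAction.compHom _ j
  have h := burnside_normal (N := N) (X := Γ ⧸ D) E
  have h1 : ∀ n : N, mk D ((E ⊔ Subgroup.zpowers n).map j) =
      Nat.card {x : Γ ⧸ D // ∀ l ∈ E ⊔ Subgroup.zpowers n, l • x = x} := by
    intro n
    rw [mk_eq]
    apply Nat.card_congr
    refine Equiv.subtypeEquivRight (fun x => ?_)
    constructor
    · intro h l hl
      exact h (j l) ⟨l, hl, rfl⟩
    · rintro h _ ⟨l, hl, rfl⟩
      exact h l hl
  rw [Finset.sum_congr rfl (fun n _ => h1 n)]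
  exact h

variable [Fintype (Subgroup Γ)]

/-- The mark of the `Γ`-set with coefficient function `c`. -/
noncomputable def M (c : Subgroup Γ → ℕ) (E : Subgroup Γ) : ℕ := ∑ D, c D * mk D E

theorem M_cjs [Finite Γ] (c : Subgroup Γ → ℕ) (γ : Γ) (E : Subgroup Γ) :
    M c (cjs γ E) = M c E := by
  unfold M
  exact Finset.sum_congr rfl (fun D _ => by rw [mk_cjs])

theorem burnside_M [Finite Γ] {N : Type*} [Group N] [Fintype N] (j : N →* Γ)
    (E : Subgroup N) [E.Normal] (c : Subgroup Γ → ℕ) :
    Fintype.card N ∣ ∑ n : N, M c ((E ⊔ Subgroup.zpowers n).map j) := by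
  unfold M
  rw [Finset.sum_comm]
  apply Finset.dvd_sum
  intro D _
  rw [← Finset.mul_sum]
  exact Dvd.dvd.mul_left (burnside_mk j E D) _

/-- Comparison of two Burnside congruences. -/
theorem compare [Finite Γ] {N : Type*} [Group N] [Finite N] (c : Subgroup Γ → ℕ)
    (j₁ j₂ : N →* Γ) (E : Subgroup N) [E.Normal]
    (h : ∀ L : Subgroup N, E < L → M c (L.map j₁) = M c (L.map j₂)) :
    (Nat.card N : ℤ) ∣ (Nat.card E : ℤ) * ((M c (E.map j₁) : ℤ) - (M c (E.map j₂) : ℤ)) := by
  classical
  haveI : Fintype N := Fintype.ofFinite N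
  have h1 := burnside_M j₁ E c
  have h2 := burnside_M j₂ E c
  rw [← Nat.card_eq_fintype_card] at h1 h2
  have h1' : (Nat.card N : ℤ) ∣ ((∑ n : N, M c ((E ⊔ Subgroup.zpowers n).map j₁) : ℕ) : ℤ) :=
    Int.natCast_dvd_natCast.2 h1
  have h2' : (Nat.card N : ℤ) ∣ ((∑ n : N, M c ((E ⊔ Subgroup.zpowers n).map j₂) : ℕ) : ℤ) :=
    Int.natCast_dvd_natCast.2 h2
  have h3 := dvd_sub h1' h2'
  have h4 : (((∑ n : N, M c ((E ⊔ Subgroup.zpowers n).map j₁) : ℕ) : ℤ)
      - ((∑ n : N, M c ((E ⊔ Subgroup.zpowers n).map j₂) : ℕ) : ℤ))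
      = (Nat.card E : ℤ) * ((M c (E.map j₁) : ℤ) - (M c (E.map j₂) : ℤ)) := by
    push_cast
    rw [← Finset.sum_sub_distrib]
    have h5 : ∀ n : N, ((M c ((E ⊔ Subgroup.zpowers n).map j₁) : ℤ)
        - (M c ((E ⊔ Subgroup.zpowers n).map j₂) : ℤ))
        = if n ∈ E then ((M c (E.map j₁) : ℤ) - (M c (E.map j₂) : ℤ)) else 0 := by
      intro n
      by_cases hn : n ∈ E
      · rw [if_pos hn]
        have : E ⊔ Subgroup.zpowers n = E := by
          apply sup_eq_left.2
          rwa [Subgroup.zpowers_le]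
        rw [this]
      · rw [if_neg hn]
        have : E < E ⊔ Subgroup.zpowers n := by
          apply lt_of_le_of_ne le_sup_left
          intro he
          apply hn
          rw [he]
          exact (le_sup_right : Subgroup.zpowers n ≤ E ⊔ Subgroup.zpowers n)
            (Subgroup.mem_zpowers n)
        rw [h _ this, sub_self]
    rw [Finset.sum_congr rfl (fun n _ => h5 n), Finset.sum_ite, Finset.sum_const_zero, add_zero,
      Finset.sum_const, nsmul_eq_mul]
    congr 2
    rw [Nat.card_eq_fintype_card, Fintype.card_subtype]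
  rw [h4] at h3
  exact h3

/-- Comparison at the normalizer: the version used for the biset. -/
theorem compare_normalizer [Finite Γ] (c : Subgroup Γ → ℕ) (E E₀ : Subgroup Γ)
    (Λ : Subgroup.normalizer (E : Set Γ) →* Γ)
    (hE : (E.subgroupOf (Subgroup.normalizer (E : Set Γ))).map Λ = E₀)
    (h : ∀ L : Subgroup (Subgroup.normalizer (E : Set Γ)),
      E.subgroupOf (Subgroup.normalizer (E : Set Γ)) < L →
      M c (L.map (Subgroup.normalizer (E : Set Γ)).subtype) = M c (L.map Λ)) :
    (mk E E : ℤ) ∣ (M c E : ℤ) - (M c E₀ : ℤ) := by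
  haveI : (E.subgroupOf (Subgroup.normalizer (E : Set Γ))).Normal :=
    Subgroup.normal_in_normalizer
  have h1 := compare c (Subgroup.normalizer (E : Set Γ)).subtype Λ
    (E.subgroupOf (Subgroup.normalizer (E : Set Γ))) h
  have h2 : (E.subgroupOf (Subgroup.normalizer (E : Set Γ))).map
      (Subgroup.normalizer (E : Set Γ)).subtype = E := by
    rw [Subgroup.subgroupOf_map_subtype]
    exact inf_eq_left.2 Subgroup.le_normalizer
  have h3 : Nat.card (E.subgroupOf (Subgroup.normalizer (E : Set Γ))) = Nat.card E :=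
    Nat.card_congr (Subgroup.subgroupOfEquivOfLe Subgroup.le_normalizer).toEquiv
  rw [h2, hE, h3, ← mk_self] at h1
  have h4 : (Nat.card E : ℤ) ≠ 0 := by
    have : 0 < Nat.card E := Nat.card_pos
    exact_mod_cast this.ne'
  push_cast at h1
  rw [mul_comm (mk E E : ℤ)] at h1
  exact (mul_dvd_mul_iff_left h4).1 h1

end Cfsg.Agent.Lib.Helper90.Marks
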