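import Mathlib

/-!
Cycle products and labelled fixed-point counts (interface between the characteristic
biset and the transfer).
-/

set_option autoImplicit false

namespace Cfsg.Agent.Lib.Helper90.Cyc

variable {G : Type*} {A : Type*} [Group G] [CommGroup A]

/-- The number of cosets `uQ` fixed by `y ^ k` whose label `ψ (u⁻¹ y^k u)` equals `a`. -/
noncomputable def cnt (Q : Subgroup G) (ψ : G → A) (y : G) (k : ℕ) (a : A) : ℕ :=
  Nat.card {q : G ⧸ Q // ∃ u : G, (u : G ⧸ Q) = q ∧ u⁻¹ * y ^ k * u ∈ Q ∧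
    ψ (u⁻¹ * y ^ k * u) = a}

/-- The cycle product: the product over the cycles of `y` on `G ⧸ Q` of the labels. -/
noncomputable def cyc [Finite G] (Q : Subgroup G) (ψ : G → A) (y : G) : A :=
  letI : Fintype (Quotient (MulAction.orbitRel (Subgroup.zpowers y) (G ⧸ Q))) :=
    Fintype.ofFinite _
  ∏ q : Quotient (MulAction.orbitRel (Subgroup.zpowers y) (G ⧸ Q)),
    ψ (q.out.out⁻¹ * y ^ Function.minimalPeriod (y • ·) q.out * q.out.out)

/-- The transfer is a cycle product. -/
theorem transfer_eq_cyc [Finite G] (Q : Subgroup G) (ϕ : Q →* A) (ψ : G → A)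
    (hψ : ∀ (g : G) (h : g ∈ Q), ψ g = ϕ ⟨g, h⟩) (y : G) :
    MonoidHom.transfer ϕ y = cyc Q ψ y := by
  classical
  letI : Fintype (Quotient (MulAction.orbitRel (Subgroup.zpowers y) (G ⧸ Q))) :=
    Fintype.ofFinite _
  rw [MonoidHom.transfer_eq_prod_quotient_orbitRel_zpowers_quot]
  unfold cyc
  refine Finset.prod_congr rfl ?_
  intro q _
  exact (hψ _ _).symm

end Cfsg.Agent.Lib.Helper90.Cyc
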