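import Cfsg.Agent.Lib.Helper90.Biset.Exists
import Cfsg.Agent.Lib.Helper90.Biset.CycDefs
import Cfsg.Agent.Lib.Helper40.CycleCount

set_option autoImplicit false
set_option linter.style.haveILetI false

namespace Cfsg.Agent.Lib.Helper90.Biset

open Cfsg Cfsg.FusionSystem Cfsg.Agent.Lib.Helper87 Cfsg.Agent.Lib.Helper90.Marks

variable {Ω : Type*} [Group Ω] {S : Subgroup Ω}

/-- The first projection of a subgroup of `S × S`. -/
abbrev Qf (D : Subgroup (↥S × ↥S)) : Subgroup ↥S := D.map (MonoidHom.fst ↥S ↥S)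

/-- The partial map `r ↦ t`, `(r, t) ∈ D`. -/
noncomputable def phi (D : Subgroup (↥S × ↥S)) (r : ↥S) : ↥S := by
  classical exact if h : ∃ t, (r, t) ∈ D then h.choose else 1

theorem phi_spec {D : Subgroup (↥S × ↥S)} {r : ↥S} (hr : r ∈ Qf D) : (r, phi D r) ∈ D := by
  classical
  obtain ⟨g, hg, rfl⟩ := hr
  have h : ∃ t, ((MonoidHom.fst ↥S ↥S) g, t) ∈ D := ⟨g.2, hg⟩
  unfold phi
  rw [dif_pos h]
  exact h.choose_spec

theorem IsTw.mem_iff {F : FusionSystem S} {D : Subgroup (↥S × ↥S)} (h : IsTw F D) (r t : ↥S) :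
    (r, t) ∈ D ↔ r ∈ Qf D ∧ phi D r = t := by
  constructor
  · intro hrt
    have hr : r ∈ Qf D := ⟨(r, t), hrt, rfl⟩
    refine ⟨hr, ?_⟩
    have h1 := phi_spec hr
    obtain ⟨U, a, ha, rfl⟩ := h
    obtain ⟨k1, k2⟩ := (mem_tw ha _).1 h1
    obtain ⟨k3, k4⟩ := (mem_tw ha _).1 hrt
    exact Subtype.ext (ha.inj k1 k3 (k2.symm.trans k4))
  · rintro ⟨hr, rfl⟩
    exact phi_spec hr

theorem IsTw.phi_mul {F : FusionSystem S} {D : Subgroup (↥S × ↥S)} (h : IsTw F D) {r r' : ↥S}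
    (hr : r ∈ Qf D) (hr' : r' ∈ Qf D) : phi D (r * r') = phi D r * phi D r' :=
  ((h.mem_iff _ _).1 (D.mul_mem (phi_spec hr) (phi_spec hr'))).2

theorem IsTw.phi_inv {F : FusionSystem S} {D : Subgroup (↥S × ↥S)} (h : IsTw F D) {r : ↥S}
    (hr : r ∈ Qf D) : phi D r⁻¹ = (phi D r)⁻¹ :=
  ((h.mem_iff _ _).1 (D.inv_mem (phi_spec hr))).2

theorem IsTw.exists_mor {F : FusionSystem S} {D : Subgroup (↥S × ↥S)} (h : IsTw F D) :
    ∃ b : Ω → Ω, Mor F ((Qf D).map S.subtype) b ∧ ∀ r ∈ Qf D, b r = phi D r := by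
  have h' := h
  obtain ⟨U, a, ha, rfl⟩ := h
  obtain ⟨b, hb, hba, -⟩ := ha.iso_img.symm
  have hQ : (Qf (tw S U a)).map S.subtype = img U a := by
    ext x
    rw [ha.mem_img]
    constructor
    · rintro ⟨_, ⟨g, hg, rfl⟩, rfl⟩
      obtain ⟨k1, k2⟩ := (mem_tw ha _).1 hg
      exact ⟨_, k1, k2.symm⟩
    · rintro ⟨u, hu, rfl⟩
      exact ⟨⟨a u, ha.mem hu⟩, ⟨(⟨a u, ha.mem hu⟩, ⟨u, ha.le hu⟩), (mem_tw ha _).2 ⟨hu, rfl⟩, rfl⟩,
        rfl⟩
  refine ⟨b, hQ ▸ hb.mor, ?_⟩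
  intro r hr
  obtain ⟨k1, k2⟩ := (mem_tw ha _).1 (phi_spec hr)
  have k2' : (r : Ω) = a (phi (tw S U a) r) := k2
  rw [k2', hba _ k1]

theorem IsTw.card_Qf {F : FusionSystem S} {D : Subgroup (↥S × ↥S)} (h : IsTw F D) :
    Nat.card (Qf D) = Nat.card D := by
  obtain ⟨U, a, ha, rfl⟩ := h
  rw [card_map_fst_tw ha, card_tw ha]

/-- The mark at a cyclic subgroup, counted in the group. -/
theorem mk_zpowers_mul_card {Γ : Type*} [Group Γ] [Finite Γ] (D : Subgroup Γ) (g : Γ) :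
    mk D (Subgroup.zpowers g) * Nat.card D = Nat.card {γ : Γ // γ⁻¹ * g * γ ∈ D} := by
  rw [mk_mul_card]
  apply Nat.card_congr
  refine Equiv.subtypeEquivRight (fun γ => ?_)
  have h1 : (∀ e ∈ Subgroup.zpowers g, γ⁻¹ * e * γ ∈ D) ↔ Subgroup.zpowers g ≤ cjs γ D :=
    ⟨fun h e he => mem_cjs.2 (h e he), fun h e he => mem_cjs.1 (h he)⟩
  rw [h1, Subgroup.zpowers_le, mem_cjs]

/-- The labelled count, counted in the group. -/
theorem cnt_mul_card {G : Type*} {A : Type*} [Group G] [Finite G] [CommGroup A] (Q : Subgroup G)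
    (ψ : G → A) (y : G) (k : ℕ) (a : A)
    (hinv : ∀ u r : G, r ∈ Q → u⁻¹ * y ^ k * u ∈ Q →
      ψ (r⁻¹ * (u⁻¹ * y ^ k * u) * r) = ψ (u⁻¹ * y ^ k * u)) :
    Cyc.cnt Q ψ y k a * Nat.card Q =
      Nat.card {u : G // u⁻¹ * y ^ k * u ∈ Q ∧ ψ (u⁻¹ * y ^ k * u) = a} := by
  have h := card_preimage_quot Q {q : G ⧸ Q | ∃ u : G, (u : G ⧸ Q) = q ∧ u⁻¹ * y ^ k * u ∈ Q ∧
    ψ (u⁻¹ * y ^ k * u) = a}
  have h1 : Cyc.cnt Q ψ y k a = Nat.card ({q : G ⧸ Q | ∃ u : G, (u : G ⧸ Q) = q ∧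
      u⁻¹ * y ^ k * u ∈ Q ∧ ψ (u⁻¹ * y ^ k * u) = a} : Set (G ⧸ Q)) := rfl
  rw [h1, ← h]
  apply Nat.card_congr
  refine Equiv.subtypeEquivRight (fun γ => ?_)
  constructor
  · rintro ⟨u, hu, h2, h3⟩
    have hr : u⁻¹ * γ ∈ Q := QuotientGroup.eq.1 hu
    have e : γ⁻¹ * y ^ k * γ = (u⁻¹ * γ)⁻¹ * (u⁻¹ * y ^ k * u) * (u⁻¹ * γ) := by group
    rw [e]
    exact ⟨Q.mul_mem (Q.mul_mem (Q.inv_mem hr) h2) hr, by rw [hinv u _ hr h2, h3]⟩
  · intro hγ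
    exact ⟨γ, rfl, hγ⟩

theorem key_count [Finite S] [Fintype ↥S] {A : Type*} [DecidableEq A] {F : FusionSystem S}
    {D : Subgroup (↥S × ↥S)}
    (hD : IsTw F D) (lab : ↥S → A) (x : ↥S) (a : A)
    (hlab : ∀ u v : ↥S, u⁻¹ * x * u ∈ Qf D →
      lab (v * phi D (u⁻¹ * x * u) * v⁻¹) = lab (phi D (u⁻¹ * x * u))) :
    ∑ t : ↥S, (if lab t = a then Nat.card {γ : ↥S × ↥S // γ⁻¹ * (x, t) * γ ∈ D} else 0) =
      Nat.card {u : ↥S // u⁻¹ * x * u ∈ Qf D ∧ lab (phi D (u⁻¹ * x * u)) = a} * Nat.card S := by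
  have h1 : ∀ t : ↥S, (if lab t = a then Nat.card {γ : ↥S × ↥S // γ⁻¹ * (x, t) * γ ∈ D} else 0)
      = Nat.card {γ : ↥S × ↥S // lab t = a ∧ γ⁻¹ * (x, t) * γ ∈ D} := by
    intro t
    by_cases ht : lab t = a
    · rw [if_pos ht]
      exact Nat.card_congr (Equiv.subtypeEquivRight (fun γ => by simp [ht]))
    · rw [if_neg ht]
      haveI : IsEmpty {γ : ↥S × ↥S // lab t = a ∧ γ⁻¹ * (x, t) * γ ∈ D} :=
        ⟨fun γ => ht γ.2.1⟩
      exact Nat.card_of_isEmpty.symm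
  rw [Finset.sum_congr rfl (fun t _ => h1 t), ← Nat.card_sigma, ← Nat.card_prod]
  apply Nat.card_congr
  refine (Equiv.subtypeProdEquivSigmaSubtype
    (fun (t : ↥S) (γ : ↥S × ↥S) => lab t = a ∧ γ⁻¹ * (x, t) * γ ∈ D)).symm.trans ?_
  have hmem : ∀ (t : ↥S) (γ : ↥S × ↥S), γ⁻¹ * (x, t) * γ ∈ D ↔
      (γ.1⁻¹ * x * γ.1 ∈ Qf D ∧ phi D (γ.1⁻¹ * x * γ.1) = γ.2⁻¹ * t * γ.2) := by
    intro t γ
    exact hD.mem_iff _ _
  exact
    { toFun := fun z => (⟨z.1.2.1, ((hmem _ _).1 z.2.2).1, by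
        have h2 := ((hmem _ _).1 z.2.2).2
        have h3 := hlab z.1.2.1 z.1.2.2 ((hmem _ _).1 z.2.2).1
        rw [← h3, h2]
        refine Eq.trans ?_ z.2.1
        congr 1
        group⟩, z.1.2.2)
      invFun := fun w => ⟨(w.2 * phi D (w.1.1⁻¹ * x * w.1.1) * w.2⁻¹, (w.1.1, w.2)), by
        refine ⟨?_, ?_⟩
        · show lab (w.2 * phi D (w.1.1⁻¹ * x * w.1.1) * w.2⁻¹) = a
          rw [hlab _ _ w.1.2.1]; exact w.1.2.2
        · rw [hmem]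
          refine ⟨w.1.2.1, ?_⟩
          show phi D (w.1.1⁻¹ * x * w.1.1) = w.2⁻¹ * (w.2 * phi D (w.1.1⁻¹ * x * w.1.1) * w.2⁻¹) * w.2
          group⟩
      left_inv := by
        rintro ⟨⟨t, γ⟩, h2, h3⟩
        apply Subtype.ext
        have e : γ.2 * phi D (γ.1⁻¹ * x * γ.1) * γ.2⁻¹ = t := by
          rw [((hmem _ _).1 h3).2]
          show γ.2 * (γ.2⁻¹ * t * γ.2) * γ.2⁻¹ = t
          group
        show (γ.2 * phi D (γ.1⁻¹ * x * γ.1) * γ.2⁻¹, (γ.1, γ.2)) = (t, γ)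
        rw [e]
      right_inv := fun w => rfl }

/-- The labelled count in terms of marks at cyclic subgroups. -/
theorem sum_mk_eq [Finite S] [Fintype ↥S] {A : Type*} [CommGroup A] [DecidableEq A]
    {F : FusionSystem S} {D : Subgroup (↥S × ↥S)} (hD : IsTw F D) (lab : ↥S → A)
    (H : Subgroup ↥S) [H.Normal] (hHc : ∀ r ∈ Qf D, r ∈ H → phi D r ∈ H)
    (hl2 : ∀ h ∈ H, ∀ v : ↥S, lab (v * h * v⁻¹) = lab h)
    (y : ↥S) (hy : y ∈ H) (k : ℕ) (a : A) :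
    ∑ t : ↥S, (if lab t = a then mk D (Subgroup.zpowers ((y ^ k, t) : ↥S × ↥S)) else 0) =
      Nat.card S * Cyc.cnt (Qf D) (lab ∘ phi D) y k a := by
  have hpos : 0 < Nat.card D := Nat.card_pos
  apply Nat.eq_of_mul_eq_mul_right hpos
  have hxH : ∀ u : ↥S, u⁻¹ * y ^ k * u ∈ H := by
    intro u
    have := (inferInstance : H.Normal).conj_mem (y ^ k) (H.pow_mem hy k) u⁻¹
    rwa [inv_inv] at this
  rw [Finset.sum_mul]
  have h1 : ∀ t : ↥S,
      (if lab t = a then mk D (Subgroup.zpowers ((y ^ k, t) : ↥S × ↥S)) else 0) * Nat.card D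
      = if lab t = a then Nat.card {γ : ↥S × ↥S // γ⁻¹ * (y ^ k, t) * γ ∈ D} else 0 := by
    intro t
    rw [ite_mul, zero_mul, mk_zpowers_mul_card]
  rw [Finset.sum_congr rfl (fun t _ => h1 t),
    key_count hD lab (y ^ k) a (fun u v hu => hl2 _ (hHc _ hu (hxH u)) v)]
  have h2 := cnt_mul_card (Qf D) (lab ∘ phi D) y k a (by
    intro u r hr hu
    show lab (phi D (r⁻¹ * (u⁻¹ * y ^ k * u) * r)) = lab (phi D (u⁻¹ * y ^ k * u))
    rw [hD.phi_mul ((Qf D).mul_mem ((Qf D).inv_mem hr) hu) hr,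
      hD.phi_mul ((Qf D).inv_mem hr) hu, hD.phi_inv hr]
    have := hl2 _ (hHc _ hu (hxH u)) (phi D r)⁻¹
    rwa [inv_inv] at this)
  rw [hD.card_Qf] at h2
  rw [mul_assoc, h2, mul_comm]
  rfl

variable [Fintype (Subgroup (↥S × ↥S))]

/-- Stability of marks under `ϑ × id`. -/
theorem M_map_lam {F : FusionSystem S} (c : Subgroup (↥S × ↥S) → ℕ)
    (hc : ∀ D, c D ≠ 0 → IsTw F D)
    (hst : ∀ (U : Subgroup Ω) (a a' : Ω → Ω), Mor F U a → Mor F U a' →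
      M c (tw S U a) = M c (tw S U a'))
    {V : Subgroup Ω} {ϑ : Ω → Ω} (h : Mor F V ϑ)
    (N : Subgroup (↥S × ↥S)) (hN : ∀ g ∈ N, (g.1 : Ω) ∈ V) (L : Subgroup N) :
    M c (L.map N.subtype) = M c (L.map (lam h N hN)) := by
  by_cases hT : IsTw F (L.map N.subtype)
  · obtain ⟨U', a', ha', hL'⟩ := hT
    rw [(map_lam_tw h N hN L ha' hL').2, hL']
    exact hst U' a' _ ha' (map_lam_tw h N hN L ha' hL').1
  · rw [M_eq_zero c hc hT, M_eq_zero c hc (fun h' => hT (isTw_of_map_lam h N hN L h'))]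

/-- Stability of marks at cyclic subgroups. -/
theorem M_zpowers {F : FusionSystem S} (c : Subgroup (↥S × ↥S) → ℕ)
    (hc : ∀ D, c D ≠ 0 → IsTw F D)
    (hst : ∀ (U : Subgroup Ω) (a a' : Ω → Ω), Mor F U a → Mor F U a' →
      M c (tw S U a) = M c (tw S U a'))
    {V : Subgroup Ω} {ϑ : Ω → Ω} (h : Mor F V ϑ) (x x' t : ↥S) (hx : (x : Ω) ∈ V)
    (hx' : ϑ x = x') :
    M c (Subgroup.zpowers ((x, t) : ↥S × ↥S)) = M c (Subgroup.zpowers ((x', t) : ↥S × ↥S)) := by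
  have hN : ∀ g ∈ Subgroup.zpowers ((x, t) : ↥S × ↥S), (g.1 : Ω) ∈ V := by
    rintro _ ⟨n, rfl⟩
    show (((x, t) : ↥S × ↥S) ^ n).1.1 ∈ V
    have : ((((x, t) : ↥S × ↥S) ^ n).1 : Ω) = (x : Ω) ^ n := by simp
    rw [this]
    exact V.zpow_mem hx n
  have key := M_map_lam c hc hst h (Subgroup.zpowers ((x, t) : ↥S × ↥S)) hN
    (Subgroup.zpowers ⟨((x, t) : ↥S × ↥S), Subgroup.mem_zpowers _⟩)
  rw [MonoidHom.map_zpowers, MonoidHom.map_zpowers] at key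
  have e : lam h (Subgroup.zpowers ((x, t) : ↥S × ↥S)) hN
      ⟨((x, t) : ↥S × ↥S), Subgroup.mem_zpowers _⟩ = (x', t) :=
    Prod.ext (Subtype.ext hx') rfl
  rw [e] at key
  exact key

/-- **Stability of the total cycle product.** -/
theorem stab [Finite S] {A : Type*} [CommGroup A] [Finite A] {F : FusionSystem S}
    (c : Subgroup (↥S × ↥S) → ℕ) (hc : ∀ D, c D ≠ 0 → IsTw F D)
    (hst : ∀ (U : Subgroup Ω) (a a' : Ω → Ω), Mor F U a → Mor F U a' →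
      M c (tw S U a) = M c (tw S U a'))
    (lab : ↥S → A) (H : Subgroup ↥S) [H.Normal]
    (hHc : ∀ D, IsTw F D → ∀ r ∈ Qf D, r ∈ H → phi D r ∈ H)
    (hl1 : ∀ h ∈ H, ∀ h' ∈ H, lab (h * h') = lab h * lab h')
    (hl2 : ∀ h ∈ H, ∀ v : ↥S, lab (v * h * v⁻¹) = lab h)
    (y y' : ↥S) (hy : y ∈ H) (hy' : y' ∈ H) {V : Subgroup Ω} {ϑ : Ω → Ω} (h : Mor F V ϑ)
    (hyV : (y : Ω) ∈ V) (hyy' : ϑ y = y') :
    ∏ D, Cyc.cyc (Qf D) (lab ∘ phi D) y ^ c D = ∏ D, Cyc.cyc (Qf D) (lab ∘ phi D) y' ^ c D := by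
  classical
  haveI : Fintype ↥S := Fintype.ofFinite _
  have hfil : ∀ w : Subgroup (↥S × ↥S) → ℕ,
      ∑ D ∈ Finset.univ.filter (fun D => c D ≠ 0), c D * w D = ∑ D, c D * w D := by
    intro w
    apply Finset.sum_filter_of_ne
    intro D _ hD h0
    apply hD
    rw [h0, zero_mul]
  have hcount : ∀ (z : ↥S), z ∈ H → ∀ (k : ℕ) (a : A),
      Nat.card S * ∑ D ∈ Finset.univ.filter (fun D => c D ≠ 0),
        c D * Cyc.cnt (Qf D) (lab ∘ phi D) z k a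
      = ∑ t : ↥S, if lab t = a then M c (Subgroup.zpowers ((z ^ k, t) : ↥S × ↥S)) else 0 := by
    intro z hz k a
    rw [Finset.mul_sum]
    have h1 : ∀ D ∈ Finset.univ.filter (fun D => c D ≠ 0),
        Nat.card S * (c D * Cyc.cnt (Qf D) (lab ∘ phi D) z k a)
        = c D * ∑ t : ↥S,
          (if lab t = a then mk D (Subgroup.zpowers ((z ^ k, t) : ↥S × ↥S)) else 0) := by
      intro D hD
      have hD' := hc D (Finset.mem_filter.1 hD).2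
      rw [sum_mk_eq hD' lab H (hHc D hD') hl2 z hz k a]
      ring
    rw [Finset.sum_congr rfl h1, hfil]
    simp only [Finset.mul_sum]
    rw [Finset.sum_comm]
    apply Finset.sum_congr rfl
    intro t _
    by_cases ht : lab t = a
    · simp only [if_pos ht]; rfl
    · simp only [if_neg ht, mul_zero, Finset.sum_const_zero]
  have key := Cfsg.Agent.Lib.Helper40.cyc_prod_eq (Finset.univ.filter (fun D => c D ≠ 0))
    (fun D : Subgroup (↥S × ↥S) => Qf D) (fun D => lab ∘ phi D) c H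
    (by
      intro D hD r r' hr hrH hr' hrH'
      have hD' := hc D (Finset.mem_filter.1 hD).2
      show lab (phi D (r * r')) = lab (phi D r) * lab (phi D r')
      rw [hD'.phi_mul hr hr']
      exact hl1 _ (hHc D hD' r hr hrH) _ (hHc D hD' r' hr' hrH'))
    (by
      intro D hD r u hr hrH hu
      have hD' := hc D (Finset.mem_filter.1 hD).2
      show lab (phi D (u⁻¹ * r * u)) = lab (phi D r)
      rw [hD'.phi_mul ((Qf D).mul_mem ((Qf D).inv_mem hu) hr) hu,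
        hD'.phi_mul ((Qf D).inv_mem hu) hr, hD'.phi_inv hu]
      have := hl2 _ (hHc D hD' r hr hrH) (phi D u)⁻¹
      rwa [inv_inv] at this)
    y y' hy hy'
    (by
      intro k a
      have hpos : 0 < Nat.card S := Nat.card_pos
      apply Nat.eq_of_mul_eq_mul_left hpos
      rw [hcount y hy k a, hcount y' hy' k a]
      apply Finset.sum_congr rfl
      intro t _
      have : M c (Subgroup.zpowers ((y ^ k, t) : ↥S × ↥S))
          = M c (Subgroup.zpowers ((y' ^ k, t) : ↥S × ↥S)) := by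
        apply M_zpowers c hc hst h (y ^ k) (y' ^ k) t
        · exact V.pow_mem hyV k
        · show ϑ ((y : Ω) ^ k) = (y' : Ω) ^ k
          rw [h.map_pow hyV, hyy']
      rw [this])
  have hprod : ∀ z : ↥S, ∏ D ∈ Finset.univ.filter (fun D => c D ≠ 0),
      Cyc.cyc (Qf D) (lab ∘ phi D) z ^ c D = ∏ D, Cyc.cyc (Qf D) (lab ∘ phi D) z ^ c D := by
    intro z
    apply Finset.prod_filter_of_ne
    intro D _ hD h0
    apply hD
    rw [h0, pow_zero]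
  rw [← hprod y, ← hprod y']
  exact key

end Cfsg.Agent.Lib.Helper90.Biset
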