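import Cfsg.Agent.Lib.Helper90.Biset.Top

set_option autoImplicit false
set_option linter.style.haveILetI false

namespace Cfsg.Agent.Lib.Helper90.Biset

open Cfsg Cfsg.FusionSystem Cfsg.Agent.Lib.Helper87 Cfsg.Agent.Lib.Helper90.Marks

variable {Ω : Type*} [Group Ω] {S : Subgroup Ω}

theorem card_map_fst_tw {F : FusionSystem S} {U : Subgroup Ω} {a : Ω → Ω} (h : Mor F U a) :
    Nat.card ((tw S U a).map (MonoidHom.fst ↥S ↥S)) = Nat.card U := by
  symm
  apply Nat.card_congr
  refine Equiv.ofBijective (fun u : U => (⟨⟨a u, h.mem u.2⟩,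
    ⟨(⟨a u, h.mem u.2⟩, ⟨u, h.le u.2⟩), (mem_tw h _).2 ⟨u.2, rfl⟩, rfl⟩⟩ :
      (tw S U a).map (MonoidHom.fst ↥S ↥S))) ⟨?_, ?_⟩
  · intro u u' huu
    have h1 : a u = a u' := congrArg (fun x : (tw S U a).map (MonoidHom.fst ↥S ↥S) => ((x : ↥S) : Ω)) huu
    exact Subtype.ext (h.inj u.2 u'.2 h1)
  · rintro ⟨_, ⟨g, hg, rfl⟩⟩
    obtain ⟨h1, h2⟩ := (mem_tw h g).1 hg
    refine ⟨⟨g.2, h1⟩, ?_⟩
    apply Subtype.ext
    apply Subtype.ext
    exact h2.symm

variable [Fintype (Subgroup (↥S × ↥S))]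

/-- Existence of a left-stable characteristic biset, encoded by its coefficient function. -/
theorem exists_biset [Finite S] {p : ℕ} [Fact p.Prime] (hS : IsPGroup p S) (F : FusionSystem S)
    (hF : F.IsSaturated p) :
    ∃ c : Subgroup (↥S × ↥S) → ℕ, (∀ D, c D ≠ 0 → IsTw F D) ∧
      (¬ p ∣ ∑ D, c D * (D.map (MonoidHom.fst ↥S ↥S)).index) ∧
      ∀ (U : Subgroup Ω) (a a' : Ω → Ω), Mor F U a → Mor F U a' →
        M c (tw S U a) = M c (tw S U a') := by
  obtain ⟨c, h1, h2, h3⟩ := exists_stable (IsTw F) (fun γ D h => h.cjs γ) kap kap_cjs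
    (Nat.card S) (c0 F)
    (fun D hD => by
      obtain ⟨α, hα, rfl⟩ := c0_ne_zero hD
      exact isTw_gr hα)
    (fun L L' hL hL' hc hcc _ => by
      obtain ⟨α, hα, rfl⟩ := exists_gr_of_card hL hc
      obtain ⟨α', hα', rfl⟩ := exists_gr_of_card hL' (hcc ▸ hc)
      rw [M_c0_gr F hα, M_c0_gr F hα'])
    (fun c k _ hc hst κ₀ => KL_fusion hS hF c k hc hst κ₀)
  refine ⟨c, h1, ?_, ?_⟩
  · have hterm : ∀ D : Subgroup (↥S × ↥S), ∃ e : ℕ,
        c D * (D.map (MonoidHom.fst ↥S ↥S)).index = c0 F D + p * e := by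
      intro D
      rcases Nat.lt_or_ge (Nat.card D) (Nat.card S) with hlt | hge
      · have h0 : c0 F D = 0 := by
          by_contra hne
          obtain ⟨α, hα, rfl⟩ := c0_ne_zero hne
          rw [card_gr hα] at hlt
          exact lt_irrefl _ hlt
        simp only [h0, zero_add]
        by_cases hc : c D = 0
        · exact ⟨0, by rw [hc]; simp⟩
        · obtain ⟨U, a, ha, rfl⟩ := h1 D hc
          obtain ⟨n, hn⟩ := hS.index ((tw S U a).map (MonoidHom.fst ↥S ↥S))
          have hn0 : n ≠ 0 := by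
            rintro rfl
            rw [pow_zero] at hn
            have h4 := Subgroup.card_mul_index ((tw S U a).map (MonoidHom.fst ↥S ↥S))
            rw [hn, mul_one, card_map_fst_tw ha] at h4
            rw [card_tw ha, h4] at hlt
            exact lt_irrefl _ hlt
          obtain ⟨m, rfl⟩ := Nat.exists_eq_succ_of_ne_zero hn0
          refine ⟨c (tw S U a) * p ^ m, ?_⟩
          rw [hn, pow_succ]
          ring
      · rw [h2 D hge]
        by_cases hc : c0 F D = 0
        · exact ⟨0, by rw [hc]; simp⟩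
        · obtain ⟨α, hα, rfl⟩ := c0_ne_zero hc
          have ha := (mem_autGroup_iff F le_rfl α).1 hα
          have h4 := Subgroup.card_mul_index ((tw S S (autFun α)).map (MonoidHom.fst ↥S ↥S))
          rw [card_map_fst_tw ha] at h4
          have h5 : ((tw S S (autFun α)).map (MonoidHom.fst ↥S ↥S)).index = 1 := by
            have hpos : 0 < Nat.card S := Nat.card_pos
            exact Nat.eq_of_mul_eq_mul_left hpos (by rw [h4, mul_one])
          refine ⟨0, ?_⟩
          show c0 F (gr α) * ((tw S S (autFun α)).map (MonoidHom.fst ↥S ↥S)).index = _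
          rw [h5]; simp
    choose e he using hterm
    rw [Finset.sum_congr rfl (fun D _ => he D), Finset.sum_add_distrib, ← Finset.mul_sum,
      sum_c0_eq]
    intro hdvd
    have h6 := (Nat.dvd_add_left (Dvd.intro _ rfl)).1 hdvd
    obtain ⟨Q, hQ1, hQ2, -⟩ := hF S le_rfl
    have hQS : Q = S := Subgroup.eq_of_le_of_card_ge (isConj_le' hQ1) (isConj_card hQ1).le
    rw [hQS] at hQ2
    obtain ⟨-, R, hR⟩ := hQ2
    rw [← hR] at h6
    exact R.not_dvd_index h6
  · intro U a a' ha ha'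
    exact h3 _ _ ⟨U, a, ha, rfl⟩ ⟨U, a', ha', rfl⟩ (by rw [card_tw ha, card_tw ha'])
      (kap_tw ha ha')

end Cfsg.Agent.Lib.Helper90.Biset
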