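import Cfsg.Agent.Lib.Helper90.Biset.Twisted

set_option autoImplicit false
set_option linter.style.haveILetI false

namespace Cfsg.Agent.Lib.Helper90.Biset

open Cfsg Cfsg.FusionSystem Cfsg.Agent.Lib.Helper87 Cfsg.Agent.Lib.Helper90.Marks

variable {Ω : Type*} [Group Ω] {S : Subgroup Ω}

/-- The partial map `ϑ × id` on a subgroup `N` of `S × S` whose first projection lies in the
source of `ϑ`. -/
noncomputable def lam {F : FusionSystem S} {V : Subgroup Ω} {ϑ : Ω → Ω} (h : Mor F V ϑ)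
    (N : Subgroup (↥S × ↥S)) (hN : ∀ g ∈ N, (g.1 : Ω) ∈ V) : N →* (↥S × ↥S) :=
  MonoidHom.mk' (fun g => (⟨ϑ g.1.1, h.mem (hN g.1 g.2)⟩, g.1.2)) (by
    intro g g'
    apply Prod.ext
    · apply Subtype.ext
      exact h.map_mul (hN g.1 g.2) (hN g'.1 g'.2)
    · rfl)

theorem lam_fst {F : FusionSystem S} {V : Subgroup Ω} {ϑ : Ω → Ω} (h : Mor F V ϑ)
    (N : Subgroup (↥S × ↥S)) (hN : ∀ g ∈ N, (g.1 : Ω) ∈ V) (g : N) :
    ((lam h N hN g).1 : Ω) = ϑ g.1.1 := rfl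

theorem lam_snd {F : FusionSystem S} {V : Subgroup Ω} {ϑ : Ω → Ω} (h : Mor F V ϑ)
    (N : Subgroup (↥S × ↥S)) (hN : ∀ g ∈ N, (g.1 : Ω) ∈ V) (g : N) :
    (lam h N hN g).2 = g.1.2 := rfl

theorem map_lam_tw {F : FusionSystem S} {V : Subgroup Ω} {ϑ : Ω → Ω} (h : Mor F V ϑ)
    (N : Subgroup (↥S × ↥S)) (hN : ∀ g ∈ N, (g.1 : Ω) ∈ V) (L : Subgroup N)
    {U' : Subgroup Ω} {a' : Ω → Ω} (ha' : Mor F U' a') (hL : L.map N.subtype = tw S U' a') :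
    Mor F U' (ϑ ∘ a') ∧ L.map (lam h N hN) = tw S U' (ϑ ∘ a') := by
  have hlift : ∀ u ∈ U', ∃ l ∈ L, (l.1.1 : Ω) = a' u ∧ (l.1.2 : Ω) = u := by
    intro u hu
    have h1 : ((⟨a' u, ha'.mem hu⟩, ⟨u, ha'.le hu⟩) : ↥S × ↥S) ∈ tw S U' a' :=
      (mem_tw ha' _).2 ⟨hu, rfl⟩
    rw [← hL] at h1
    obtain ⟨l, hl, hl'⟩ := h1
    refine ⟨l, hl, ?_, ?_⟩
    · exact congrArg (fun g : ↥S × ↥S => (g.1 : Ω)) hl'
    · exact congrArg (fun g : ↥S × ↥S => (g.2 : Ω)) hl'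
  have hm : Mor F U' (ϑ ∘ a') := ha'.comp h (fun u hu => by
    obtain ⟨l, _, h1, _⟩ := hlift u hu
    rw [← h1]; exact hN l.1 l.2)
  refine ⟨hm, ?_⟩
  ext g
  rw [mem_tw hm]
  constructor
  · rintro ⟨l, hl, rfl⟩
    have h1 : l.1 ∈ tw S U' a' := by rw [← hL]; exact ⟨l, hl, rfl⟩
    obtain ⟨h2, h3⟩ := (mem_tw ha' _).1 h1
    rw [lam_fst, lam_snd]
    exact ⟨h2, by rw [h3]; rfl⟩
  · rintro ⟨h1, h2⟩
    obtain ⟨l, hl, h3, h4⟩ := hlift _ h1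
    refine ⟨l, hl, ?_⟩
    apply Prod.ext
    · apply Subtype.ext
      rw [lam_fst, h3, h2]; rfl
    · apply Subtype.ext
      rw [lam_snd, h4]

theorem isTw_of_map_lam {F : FusionSystem S} {V : Subgroup Ω} {ϑ : Ω → Ω} (h : Mor F V ϑ)
    (N : Subgroup (↥S × ↥S)) (hN : ∀ g ∈ N, (g.1 : Ω) ∈ V) (L : Subgroup N)
    (hL : IsTw F (L.map (lam h N hN))) : IsTw F (L.map N.subtype) := by
  obtain ⟨U, a, ha, hL⟩ := hL
  obtain ⟨ϑ', hϑ', hinv, -⟩ := h.iso_img.symm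
  have hlift : ∀ u ∈ U, ∃ l ∈ L, ϑ (l.1.1 : Ω) = a u ∧ (l.1.2 : Ω) = u := by
    intro u hu
    have h1 : ((⟨a u, ha.mem hu⟩, ⟨u, ha.le hu⟩) : ↥S × ↥S) ∈ tw S U a :=
      (mem_tw ha _).2 ⟨hu, rfl⟩
    rw [← hL] at h1
    obtain ⟨l, hl, hl'⟩ := h1
    refine ⟨l, hl, ?_, ?_⟩
    · exact congrArg (fun g : ↥S × ↥S => (g.1 : Ω)) hl'
    · exact congrArg (fun g : ↥S × ↥S => (g.2 : Ω)) hl'
  have hm : Mor F U (ϑ' ∘ a) := ha.comp hϑ'.mor (fun u hu => by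
    obtain ⟨l, _, h1, _⟩ := hlift u hu
    rw [← h1]
    exact (h.mem_img _).2 ⟨_, hN l.1 l.2, rfl⟩)
  refine ⟨U, ϑ' ∘ a, hm, ?_⟩
  ext g
  rw [mem_tw hm]
  constructor
  · rintro ⟨l, hl, rfl⟩
    have h1 : lam h N hN l ∈ tw S U a := by rw [← hL]; exact ⟨l, hl, rfl⟩
    obtain ⟨h2, h3⟩ := (mem_tw ha _).1 h1
    rw [lam_fst, lam_snd] at h3
    rw [lam_snd] at h2
    refine ⟨h2, ?_⟩
    show (l.1.1 : Ω) = ϑ' (a l.1.2)
    rw [← h3, hinv _ (hN l.1 l.2)]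
  · rintro ⟨h1, h2⟩
    obtain ⟨l, hl, h3, h4⟩ := hlift _ h1
    refine ⟨l, hl, ?_⟩
    apply Prod.ext
    · apply Subtype.ext
      show (l.1.1 : Ω) = g.1
      rw [h2]
      show _ = ϑ' (a g.2)
      rw [← h3, hinv _ (hN l.1 l.2)]
    · apply Subtype.ext
      exact h4

variable [Fintype (Subgroup (↥S × ↥S))]

/-- The key congruence: comparison of `tw U a` with the reference `tw U f₀`. -/
theorem KL1 [Finite S] {F : FusionSystem S} (c : Subgroup (↥S × ↥S) → ℕ)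
    (hc : ∀ D, c D ≠ 0 → IsTw F D) {U U₀ : Subgroup Ω} {f₀ a : Ω → Ω}
    (hrec : F.IsReceptive U₀) (hf₀ : Mor F (normalizerIn S U) f₀)
    (hU₀ : ∀ y, y ∈ U₀ ↔ ∃ x ∈ U, f₀ x = y) (ha : Mor F U a)
    (htr : ∀ (U' : Subgroup Ω) (a' a'' : Ω → Ω), Mor F U' a' → Mor F U' a'' →
      Nat.card U < Nat.card U' → M c (tw S U' a') = M c (tw S U' a'')) :
    (mk (tw S U a) (tw S U a) : ℤ) ∣ (M c (tw S U a) : ℤ) - (M c (tw S U f₀) : ℤ) := by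
  have hUS : U ≤ S := ha.le
  have hf₀U : Mor F U f₀ := hf₀.mono (le_normalizerIn hUS)
  obtain ⟨b, hb, hba, hab⟩ := ha.iso_img.symm
  have isoF : Iso F U U₀ f₀ := ⟨hf₀U, hU₀⟩
  have isoθ : Iso F (img U a) U₀ (f₀ ∘ b) := hb.trans isoF
  -- facts on the normalizer
  have hfw : ∀ g ∈ Subgroup.normalizer ((tw S U a : Subgroup (↥S × ↥S)) : Set (↥S × ↥S)),
      ∀ u ∈ U, (g.2 : Ω) * u * (g.2 : Ω)⁻¹ ∈ U ∧
        (g.1 : Ω) * a u * (g.1 : Ω)⁻¹ = a ((g.2 : Ω) * u * (g.2 : Ω)⁻¹) := by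
    intro g hg u hu
    have h1 : ((⟨a u, ha.mem hu⟩, ⟨u, hUS hu⟩) : ↥S × ↥S) ∈ tw S U a :=
      (mem_tw ha _).2 ⟨hu, rfl⟩
    have h2 := (Subgroup.mem_normalizer_iff.1 hg _).1 h1
    exact (mem_tw ha _).1 h2
  have hN2 : ∀ g ∈ Subgroup.normalizer ((tw S U a : Subgroup (↥S × ↥S)) : Set (↥S × ↥S)),
      (g.2 : Ω) ∈ normalizerIn S U := by
    intro g hg
    rw [mem_normalizerIn_iff]
    refine ⟨g.2.2, fun x => ⟨fun hx => (hfw g hg x hx).1, fun hx => ?_⟩⟩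
    have h1 := (hfw g⁻¹ (Subgroup.inv_mem _ hg) _ hx).1
    have h2 : ((g⁻¹).2 : Ω) * ((g.2 : Ω) * x * (g.2 : Ω)⁻¹) * ((g⁻¹).2 : Ω)⁻¹ = x := by
      show (g.2 : Ω)⁻¹ * ((g.2 : Ω) * x * (g.2 : Ω)⁻¹) * ((g.2 : Ω)⁻¹)⁻¹ = x
      group
    rwa [h2] at h1
  set N := Subgroup.normalizer ((tw S U a : Subgroup (↥S × ↥S)) : Set (↥S × ↥S)) with hNdef
  set N₁ : Subgroup Ω := (N.map (MonoidHom.fst ↥S ↥S)).map S.subtype with hN₁def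
  have hN₁ : ∀ s ∈ N₁, ∃ g ∈ N, (g.1 : Ω) = s := by
    rintro _ ⟨_, ⟨g, hg, rfl⟩, rfl⟩
    exact ⟨g, hg, rfl⟩
  have hN₁S : N₁ ≤ S := by
    intro s hs
    obtain ⟨g, _, rfl⟩ := hN₁ s hs
    exact g.1.2
  have hPfw : ∀ s ∈ N₁, ∀ x ∈ img U a, s * x * s⁻¹ ∈ img U a := by
    intro s hs x hx
    obtain ⟨g, hg, rfl⟩ := hN₁ s hs
    obtain ⟨u, hu, rfl⟩ := (ha.mem_img x).1 hx
    rw [(hfw g hg u hu).2]
    exact (ha.mem_img _).2 ⟨_, (hfw g hg u hu).1, rfl⟩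
  have hN₁P : N₁ ≤ Subgroup.normalizer ((img U a : Subgroup Ω) : Set Ω) := by
    intro s hs
    rw [Subgroup.mem_normalizer_iff]
    refine fun x => ⟨hPfw s hs x, fun hx => ?_⟩
    have h1 := hPfw s⁻¹ (N₁.inv_mem hs) _ hx
    have h2 : s⁻¹ * (s * x * s⁻¹) * s⁻¹⁻¹ = x := by group
    rwa [h2] at h1
  have hext : ∀ s ∈ N₁, ∃ k ∈ S, ∀ x ∈ img U a,
      (f₀ ∘ b) (s * x * s⁻¹) = k * (f₀ ∘ b) x * k⁻¹ := by
    intro s hs
    obtain ⟨g, hg, rfl⟩ := hN₁ s hs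
    refine ⟨f₀ g.2, hf₀.mem (hN2 g hg), ?_⟩
    intro x hx
    obtain ⟨u, hu, rfl⟩ := (ha.mem_img x).1 hx
    show f₀ (b ((g.1 : Ω) * a u * (g.1 : Ω)⁻¹)) = f₀ g.2 * f₀ (b (a u)) * (f₀ g.2)⁻¹
    rw [(hfw g hg u hu).2, hba _ (hfw g hg u hu).1, hba _ hu]
    exact hf₀.map_conj (hN2 g hg) (le_normalizerIn hUS hu)
  obtain ⟨ϑ, hϑ, hϑP⟩ := receptive_extend hrec isoθ N₁ hN₁S hN₁P hext
  have hNV : ∀ g ∈ N, (g.1 : Ω) ∈ img U a ⊔ N₁ := fun g hg =>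
    (le_sup_right : N₁ ≤ img U a ⊔ N₁) ⟨g.1, ⟨g, hg, rfl⟩, rfl⟩
  have hEN : ((tw S U a).subgroupOf N).map N.subtype = tw S U a := by
    rw [Subgroup.subgroupOf_map_subtype]
    exact inf_eq_left.2 Subgroup.le_normalizer
  apply compare_normalizer c (tw S U a) (tw S U f₀) (lam hϑ N hNV)
  · rw [(map_lam_tw hϑ N hNV _ ha hEN).2]
    apply tw_congr
    intro x hx
    show ϑ (a x) = f₀ x
    rw [hϑP _ ((ha.mem_img _).2 ⟨x, hx, rfl⟩)]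
    show f₀ (b (a x)) = f₀ x
    rw [hba _ hx]
  · intro L hL
    by_cases hT : IsTw F (L.map N.subtype)
    · obtain ⟨U', a', ha', hL'⟩ := hT
      rw [(map_lam_tw hϑ N hNV L ha' hL').2, hL']
      apply htr U' a' _ ha' (map_lam_tw hϑ N hNV L ha' hL').1
      rw [← card_tw ha, ← card_tw ha', ← hL', ← hEN]
      have e1 : Nat.card (((tw S U a).subgroupOf N).map N.subtype)
          = Nat.card ((tw S U a).subgroupOf N) :=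
        Nat.card_congr (Subgroup.equivMapOfInjective _ _ N.subtype_injective).symm.toEquiv
      have e2 : Nat.card (L.map N.subtype) = Nat.card L :=
        Nat.card_congr (Subgroup.equivMapOfInjective _ _ N.subtype_injective).symm.toEquiv
      rw [e1, e2]
      by_contra hcon
      exact hL.ne (Subgroup.eq_of_le_of_card_ge hL.le (not_lt.1 hcon))
    · rw [M_eq_zero c hc hT, M_eq_zero c hc (fun h => hT (isTw_of_map_lam hϑ N hNV L h))]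

omit [Fintype (Subgroup (↥S × ↥S))] in
theorem kap_tw {F : FusionSystem S} {U : Subgroup Ω} {a a' : Ω → Ω} (h : Mor F U a)
    (h' : Mor F U a') : kap (tw S U a) = kap (tw S U a') := by
  unfold kap
  rw [map_snd_tw h, map_snd_tw h']

/-- The hypothesis of `exists_stable` for a saturated fusion system. -/
theorem KL_fusion [Finite S] {p : ℕ} [Fact p.Prime] (hS : IsPGroup p S) {F : FusionSystem S}
    (hF : F.IsSaturated p) (c : Subgroup (↥S × ↥S) → ℕ) (k : ℕ)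
    (hc : ∀ D, c D ≠ 0 → IsTw F D)
    (hst : ∀ L L' : Subgroup (↥S × ↥S), IsTw F L → IsTw F L' → k < Nat.card L →
      Nat.card L = Nat.card L' → kap L = kap L' → M c L = M c L')
    (κ₀ : Set (Subgroup ↥S)) :
    ∃ G₀ : ℤ, ∀ E : Subgroup (↥S × ↥S), IsTw F E → Nat.card E = k → kap E = κ₀ →
      (mk E E : ℤ) ∣ (M c E : ℤ) - G₀ := by
  by_cases hex : ∃ E₁ : Subgroup (↥S × ↥S), IsTw F E₁ ∧ Nat.card E₁ = k ∧ kap E₁ = κ₀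
  swap
  · exact ⟨0, fun E h1 h2 h3 => absurd ⟨E, h1, h2, h3⟩ hex⟩
  obtain ⟨_, ⟨U₁, a₁, ha₁, rfl⟩, hk₁, hκ₁⟩ := hex
  obtain ⟨U₀, hconj, hfa, hrec⟩ := hF U₁ ha₁.le
  obtain ⟨f₀, hf₀, hU₀, -⟩ := exists_mor_normalizer hS hfa hrec hconj
  refine ⟨(M c (tw S U₁ f₀) : ℤ), ?_⟩
  rintro _ ⟨U, a, ha, rfl⟩ hk hκ
  obtain ⟨t, ht⟩ := exists_of_kap_eq (hκ₁.trans hκ.symm)
  rw [map_snd_tw ha, map_snd_tw ha₁] at ht
  have hU : cjs (((1, t⁻¹) : ↥S × ↥S).2 : Ω) U = U₁ := by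
    ext x
    rw [mem_cjs]
    show ((t : Ω)⁻¹)⁻¹ * x * (t : Ω)⁻¹ ∈ U ↔ x ∈ U₁
    rw [inv_inv]
    constructor
    · intro hx
      have hxS : (t : Ω) * x * (t : Ω)⁻¹ ∈ S := ha.le hx
      have h1 : (⟨(t : Ω) * x * (t : Ω)⁻¹, hxS⟩ : ↥S) ∈ U.subgroupOf S := hx
      rw [ht, mem_cjs] at h1
      have h2 : (((t⁻¹ * ⟨(t : Ω) * x * (t : Ω)⁻¹, hxS⟩ * t : ↥S)) : Ω) ∈ U₁ := h1
      have h3 : (((t⁻¹ * ⟨(t : Ω) * x * (t : Ω)⁻¹, hxS⟩ * t : ↥S)) : Ω) = x := by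
        show (t : Ω)⁻¹ * ((t : Ω) * x * (t : Ω)⁻¹) * (t : Ω) = x
        group
      rwa [h3] at h2
    · intro hx
      have hxS : x ∈ S := ha₁.le hx
      have h1 : (t * ⟨x, hxS⟩ * t⁻¹ : ↥S) ∈ cjs t (U₁.subgroupOf S) := by
        rw [mem_cjs]
        have : t⁻¹ * (t * ⟨x, hxS⟩ * t⁻¹) * t = (⟨x, hxS⟩ : ↥S) := by group
        rw [this]; exact hx
      rw [← ht] at h1
      exact h1
  obtain ⟨hm, he⟩ := cjs_tw ha ((1, t⁻¹) : ↥S × ↥S)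
  rw [hU] at hm he
  have key := KL1 c hc hrec hf₀ hU₀ hm (by
    intro U' a' a'' ha' ha'' hlt
    apply hst _ _ ⟨U', a', ha', rfl⟩ ⟨U', a'', ha'', rfl⟩
    · rw [card_tw ha', ← hk₁, card_tw ha₁]; exact hlt
    · rw [card_tw ha', card_tw ha'']
    · exact kap_tw ha' ha'')
  rw [← he, mk_cjs, mk_cjs_left, M_cjs] at key
  exact key

end Cfsg.Agent.Lib.Helper90.Biset
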