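import Mathlib.GroupTheory.Sylow
import Mathlib.GroupTheory.GroupAction.Quotient
import Mathlib.GroupTheory.Index
import Mathlib.Tactic.Group

set_option autoImplicit false

namespace Cfsg.Agent.Lib.Helper90.Marks

open MulAction

variable {Γ : Type*} [Group Γ]

/-- The mark: number of fixed points of `E` on `Γ ⧸ D`. -/
noncomputable def mk (D E : Subgroup Γ) : ℕ := Nat.card (fixedPoints E (Γ ⧸ D))

theorem mem_fixed_iff (D E : Subgroup Γ) (γ : Γ) :
    ((γ : Γ ⧸ D) ∈ fixedPoints E (Γ ⧸ D)) ↔ ∀ e ∈ E, γ⁻¹ * e * γ ∈ D := by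
  rw [mem_fixedPoints]
  constructor
  · intro h e he
    have h1 : ((e * γ : Γ) : Γ ⧸ D) = (γ : Γ ⧸ D) := h ⟨e, he⟩
    have h2 := QuotientGroup.eq.1 h1.symm
    rwa [← mul_assoc] at h2
  · rintro h ⟨e, he⟩
    show ((e * γ : Γ) : Γ ⧸ D) = (γ : Γ ⧸ D)
    apply Eq.symm
    apply QuotientGroup.eq.2
    rw [← mul_assoc]
    exact h e he

/-- Counting a subset of a quotient through its preimage. -/
theorem card_preimage_quot [Finite Γ] (D : Subgroup Γ) (A : Set (Γ ⧸ D)) :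
    Nat.card {γ : Γ // (γ : Γ ⧸ D) ∈ A} = Nat.card A * Nat.card D := by
  rw [← Nat.card_prod]
  apply Nat.card_congr
  let e := D.groupEquivQuotientProdSubgroup
  have he : ∀ γ : Γ, (e γ).1 = (γ : Γ ⧸ D) := fun γ => rfl
  exact
    { toFun := fun γ => (⟨(e γ.1).1, by rw [he]; exact γ.2⟩, (e γ.1).2)
      invFun := fun x => ⟨e.symm (x.1.1, x.2), by
        have := he (e.symm (x.1.1, x.2))
        rw [Equiv.apply_symm_apply] at this
        rw [← this]; exact x.1.2⟩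
      left_inv := fun γ => by
        apply Subtype.ext
        simp
      right_inv := fun x => by
        ext <;> simp }

/-- The mark counted in the group. -/
theorem mk_mul_card [Finite Γ] (D E : Subgroup Γ) :
    mk D E * Nat.card D = Nat.card {γ : Γ // ∀ e ∈ E, γ⁻¹ * e * γ ∈ D} := by
  rw [mk, ← card_preimage_quot]
  apply Nat.card_congr
  exact Equiv.subtypeEquivRight (fun γ => mem_fixed_iff D E γ)

theorem exists_of_mk_ne_zero {D E : Subgroup Γ} (h : mk D E ≠ 0) :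
    ∃ γ : Γ, ∀ e ∈ E, γ⁻¹ * e * γ ∈ D := by
  have h1 : Nonempty (fixedPoints E (Γ ⧸ D)) := by
    by_contra hcon
    rw [not_nonempty_iff] at hcon
    exact h Nat.card_of_isEmpty
  obtain ⟨⟨x, hx⟩⟩ := h1
  obtain ⟨γ, rfl⟩ := QuotientGroup.mk_surjective x
  exact ⟨γ, (mem_fixed_iff D E γ).1 hx⟩

/-- conjugate of a subgroup -/
abbrev cjs (γ : Γ) (E : Subgroup Γ) : Subgroup Γ := E.map (MulAut.conj γ).toMonoidHom

theorem mem_cjs {γ x : Γ} {E : Subgroup Γ} : x ∈ cjs γ E ↔ γ⁻¹ * x * γ ∈ E := by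
  constructor
  · rintro ⟨e, he, rfl⟩
    have : γ⁻¹ * ((MulAut.conj γ).toMonoidHom e) * γ = e := by
      show γ⁻¹ * (γ * e * γ⁻¹) * γ = e
      group
    rw [this]; exact he
  · intro h
    exact ⟨_, h, by show γ * (γ⁻¹ * x * γ) * γ⁻¹ = x; group⟩

theorem card_cjs (γ : Γ) (E : Subgroup Γ) : Nat.card (cjs γ E) = Nat.card E :=
  Nat.card_congr (E.equivMapOfInjective _ (MulAut.conj γ).injective).symm.toEquiv

theorem mk_cjs [Finite Γ] (D E : Subgroup Γ) (γ : Γ) : mk D (cjs γ E) = mk D E := by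
  have hD : 0 < Nat.card D := Nat.card_pos
  apply Nat.eq_of_mul_eq_mul_right hD
  rw [mk_mul_card, mk_mul_card]
  apply Nat.card_congr
  refine Equiv.subtypeEquiv (Equiv.mulLeft γ⁻¹) (fun x => ?_)
  constructor
  · intro h e he
    have h1 := h (γ * e * γ⁻¹) (mem_cjs.2 (by
      have : γ⁻¹ * (γ * e * γ⁻¹) * γ = e := by group
      rw [this]; exact he))
    have h2 : ((Equiv.mulLeft γ⁻¹) x)⁻¹ * e * (Equiv.mulLeft γ⁻¹) x = x⁻¹ * (γ * e * γ⁻¹) * x := by
      show (γ⁻¹ * x)⁻¹ * e * (γ⁻¹ * x) = _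
      group
    rw [h2]; exact h1
  · intro h e he
    have h1 := h _ (mem_cjs.1 he)
    have h2 : ((Equiv.mulLeft γ⁻¹) x)⁻¹ * (γ⁻¹ * e * γ) * (Equiv.mulLeft γ⁻¹) x = x⁻¹ * e * x := by
      show (γ⁻¹ * x)⁻¹ * (γ⁻¹ * e * γ) * (γ⁻¹ * x) = _
      group
    rw [← h2]; exact h1

theorem mk_cjs_left [Finite Γ] (D E : Subgroup Γ) (γ : Γ) : mk (cjs γ D) E = mk D E := by
  have hD : 0 < Nat.card D := Nat.card_pos
  apply Nat.eq_of_mul_eq_mul_right hD
  rw [mk_mul_card, ← card_cjs γ D, mk_mul_card]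
  apply Nat.card_congr
  refine Equiv.subtypeEquiv (Equiv.mulRight γ) (fun x => ?_)
  have h2 : ∀ e, ((Equiv.mulRight γ) x)⁻¹ * e * (Equiv.mulRight γ) x = γ⁻¹ * (x⁻¹ * e * x) * γ := by
    intro e
    show (x * γ)⁻¹ * e * (x * γ) = _
    group
  constructor
  · intro h e he
    rw [h2]; exact mem_cjs.1 (h e he)
  · intro h e he
    apply mem_cjs.2
    rw [← h2]; exact h e he

theorem mk_self [Finite Γ] (D : Subgroup Γ) :
    mk D D * Nat.card D = Nat.card (Subgroup.normalizer (D : Set Γ)) := by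
  rw [mk, Nat.card_congr (Sylow.fixedPointsMulLeftCosetsEquivQuotient D),
    Subgroup.card_eq_card_quotient_mul_card_subgroup
      (D.comap (Subgroup.normalizer (D : Set Γ)).subtype)]
  congr 1
  exact (Nat.card_congr (Subgroup.subgroupOfEquivOfLe Subgroup.le_normalizer).toEquiv).symm

theorem mk_self_pos [Finite Γ] (D : Subgroup Γ) : 0 < mk D D := by
  have h := mk_self D
  have h1 : 0 < Nat.card (Subgroup.normalizer (D : Set Γ)) := Nat.card_pos
  rw [← h] at h1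
  exact Nat.pos_of_mul_pos_right h1 |> fun _ => Nat.pos_of_ne_zero (by
    intro h0; rw [h0, zero_mul] at h1; exact lt_irrefl _ h1)

theorem mk_self_dvd [Finite Γ] (D : Subgroup Γ) : mk D D ∣ Nat.card Γ :=
  (Dvd.intro _ (mk_self D)).trans (Subgroup.card_subgroup_dvd_card _)

/-- If `E` fixes a point of `Γ ⧸ D` then `|E| ≤ |D|`. -/
theorem card_le_of_mk_ne_zero [Finite Γ] {D E : Subgroup Γ} (h : mk D E ≠ 0) :
    Nat.card E ≤ Nat.card D := by
  obtain ⟨γ, hγ⟩ := exists_of_mk_ne_zero h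
  have h1 : cjs γ⁻¹ E ≤ D := by
    intro x hx
    obtain ⟨e, he, rfl⟩ := hx
    have := hγ e he
    show γ⁻¹ * e * γ⁻¹⁻¹ ∈ D
    rwa [inv_inv]
  rw [← card_cjs γ⁻¹ E]
  exact Nat.card_le_card_of_injective _ (Subgroup.inclusion_injective h1)

/-- If `E` fixes a point of `Γ ⧸ D` and `|D| ≤ |E|` then `D` is a conjugate of `E`. -/
theorem eq_cjs_of_mk_ne_zero [Finite Γ] {D E : Subgroup Γ} (h : mk D E ≠ 0)
    (hc : Nat.card D ≤ Nat.card E) : ∃ γ : Γ, D = cjs γ E := by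
  obtain ⟨γ, hγ⟩ := exists_of_mk_ne_zero h
  have h1 : cjs γ⁻¹ E ≤ D := by
    intro x hx
    obtain ⟨e, he, rfl⟩ := hx
    have := hγ e he
    show γ⁻¹ * e * γ⁻¹⁻¹ ∈ D
    rwa [inv_inv]
  exact ⟨γ⁻¹, (Subgroup.eq_of_le_of_card_ge h1 (by rw [card_cjs]; exact hc)).symm⟩

/-- Marks are invariant under automorphisms of `Γ`. -/
theorem mk_map_equiv [Finite Γ] (Ψ : Γ ≃* Γ) (D E : Subgroup Γ) :
    mk (D.map Ψ.toMonoidHom) (E.map Ψ.toMonoidHom) = mk D E := by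
  have hD : 0 < Nat.card D := Nat.card_pos
  have hc : Nat.card (D.map Ψ.toMonoidHom) = Nat.card D :=
    Nat.card_congr (D.equivMapOfInjective _ Ψ.injective).symm.toEquiv
  apply Nat.eq_of_mul_eq_mul_right hD
  rw [mk_mul_card, ← hc, mk_mul_card]
  apply Nat.card_congr
  refine Equiv.subtypeEquiv Ψ.symm.toEquiv (fun x => ?_)
  constructor
  · intro h e he
    obtain ⟨d, hd, hd'⟩ := h (Ψ e) ⟨e, he, rfl⟩
    have h1 : (Ψ.symm x)⁻¹ * e * Ψ.symm x = d := by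
      apply Ψ.injective
      have : Ψ d = x⁻¹ * Ψ e * x := hd'
      rw [this]
      simp
    show (Ψ.symm x)⁻¹ * e * Ψ.symm x ∈ D
    rw [h1]; exact hd
  · rintro h _ ⟨e, he, rfl⟩
    refine ⟨_, h e he, ?_⟩
    show Ψ ((Ψ.symm x)⁻¹ * e * Ψ.symm x) = x⁻¹ * Ψ e * x
    simp

end Cfsg.Agent.Lib.Helper90.Marks
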