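import Cfsg.Agent.Lib.Helper90.Biset.Burnside

set_option autoImplicit false
set_option linter.style.haveILetI false

namespace Cfsg.Agent.Lib.Helper90.Marks

variable {Γ : Type*} [Group Γ]

theorem cjs_one (D : Subgroup Γ) : cjs 1 D = D := by
  ext x
  rw [mem_cjs]
  simp

theorem cjs_cjs (γ γ' : Γ) (D : Subgroup Γ) : cjs γ (cjs γ' D) = cjs (γ * γ') D := by
  ext x
  rw [mem_cjs, mem_cjs, mem_cjs]
  have : γ'⁻¹ * (γ⁻¹ * x * γ) * γ' = (γ * γ')⁻¹ * x * (γ * γ') := by group
  rw [this]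

/-- Conjugacy of subgroups as a setoid. -/
def conjSetoid (Γ : Type*) [Group Γ] : Setoid (Subgroup Γ) where
  r D D' := ∃ γ : Γ, D' = cjs γ D
  iseqv :=
    { refl := fun D => ⟨1, (cjs_one D).symm⟩
      symm := by
        rintro D D' ⟨γ, rfl⟩
        exact ⟨γ⁻¹, by rw [cjs_cjs, inv_mul_cancel, cjs_one]⟩
      trans := by
        rintro D D' D'' ⟨γ, rfl⟩ ⟨γ', rfl⟩
        exact ⟨γ' * γ, by rw [cjs_cjs]⟩ }

/-- A representative of the conjugacy class. -/
noncomputable def rep (D : Subgroup Γ) : Subgroup Γ :=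
  (Quotient.mk (conjSetoid Γ) D).out

theorem rep_spec (D : Subgroup Γ) : ∃ γ : Γ, rep D = cjs γ D := by
  have h : (conjSetoid Γ).r (rep D) D := Quotient.mk_out (s := conjSetoid Γ) D
  exact (conjSetoid Γ).iseqv.symm h

theorem rep_cjs (γ : Γ) (D : Subgroup Γ) : rep (cjs γ D) = rep D := by
  unfold rep
  congr 1
  apply Quotient.sound
  exact (conjSetoid Γ).iseqv.symm ⟨γ, rfl⟩

theorem rep_rep (D : Subgroup Γ) : rep (rep D) = rep D := by
  obtain ⟨γ, h⟩ := rep_spec D
  conv_lhs => rw [h]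
  exact rep_cjs γ D

variable [Fintype (Subgroup Γ)]

/-- One level of the construction of a stable coefficient function. -/
theorem step [Finite Γ] {K : Type*} (T : Subgroup Γ → Prop)
    (hTc : ∀ (γ : Γ) (D : Subgroup Γ), T D → T (cjs γ D))
    (κ : Subgroup Γ → K) (hκ : ∀ (γ : Γ) (D : Subgroup Γ), κ (cjs γ D) = κ D)
    (c : Subgroup Γ → ℕ) (k : ℕ)
    (hKL : ∀ κ₀ : K, ∃ G₀ : ℤ, ∀ E : Subgroup Γ, T E → Nat.card E = k → κ E = κ₀ →
      (mk E E : ℤ) ∣ (M c E : ℤ) - G₀) :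
    ∃ c' : Subgroup Γ → ℕ, (∀ D, c' D ≠ c D → T D ∧ Nat.card D = k) ∧
      (∀ L : Subgroup Γ, k < Nat.card L → M c' L = M c L) ∧
      (∀ L L' : Subgroup Γ, T L → T L' → Nat.card L = k → Nat.card L' = k → κ L = κ L' →
        M c' L = M c' L') := by
  classical
  choose G₀ hG₀ using hKL
  set B : ℕ := ∑ E : Subgroup Γ, M c E with hBdef
  have hB : ∀ E : Subgroup Γ, M c E ≤ B := fun E =>
    Finset.single_le_sum (f := fun E => M c E) (fun _ _ => Nat.zero_le _) (Finset.mem_univ E)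
  have hn : (1 : ℤ) ≤ (Nat.card Γ : ℤ) := by
    have : 0 < Nat.card Γ := Nat.card_pos
    exact_mod_cast this
  let G : K → ℤ := fun κ₀ => G₀ κ₀ + (|G₀ κ₀| + B) * (Nat.card Γ : ℤ)
  have hG1 : ∀ (κ₀ : K) (E : Subgroup Γ), (M c E : ℤ) ≤ G κ₀ := by
    intro κ₀ E
    have h1 : (M c E : ℤ) ≤ B := by exact_mod_cast hB E
    have h2 : -|G₀ κ₀| ≤ G₀ κ₀ := neg_abs_le _
    have h3 : 0 ≤ |G₀ κ₀| := abs_nonneg _
    have h4 : (0 : ℤ) ≤ B := by positivity
    show (M c E : ℤ) ≤ G₀ κ₀ + (|G₀ κ₀| + B) * (Nat.card Γ : ℤ)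
    nlinarith
  have hG2 : ∀ E : Subgroup Γ, T E → Nat.card E = k →
      (mk E E : ℤ) ∣ G (κ E) - (M c E : ℤ) := by
    intro E hE hk
    have h1 := hG₀ (κ E) E hE hk rfl
    have h2 : (mk E E : ℤ) ∣ (Nat.card Γ : ℤ) := Int.natCast_dvd_natCast.2 (mk_self_dvd E)
    have h3 : G (κ E) - (M c E : ℤ)
        = (|G₀ (κ E)| + B) * (Nat.card Γ : ℤ) - ((M c E : ℤ) - G₀ (κ E)) := by
      show G₀ (κ E) + (|G₀ (κ E)| + B) * (Nat.card Γ : ℤ) - (M c E : ℤ) = _
      ring
    rw [h3]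
    exact dvd_sub (Dvd.dvd.mul_left h2 _) h1
  let m : Subgroup Γ → ℕ := fun D => ((G (κ D) - (M c D : ℤ)) / (mk D D : ℤ)).toNat
  have hm : ∀ D : Subgroup Γ, T D → Nat.card D = k →
      (m D : ℤ) * (mk D D : ℤ) = G (κ D) - (M c D : ℤ) := by
    intro D hD hk
    have h1 : 0 ≤ (G (κ D) - (M c D : ℤ)) / (mk D D : ℤ) :=
      Int.ediv_nonneg (sub_nonneg.2 (hG1 _ _)) (by positivity)
    show (((G (κ D) - (M c D : ℤ)) / (mk D D : ℤ)).toNat : ℤ) * _ = _
    rw [Int.toNat_of_nonneg h1]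
    exact Int.ediv_mul_cancel (hG2 D hD hk)
  let a : Subgroup Γ → ℕ := fun D => if (T D ∧ Nat.card D = k ∧ rep D = D) then m D else 0
  have hM : ∀ L : Subgroup Γ, M (fun D => c D + a D) L = M c L + ∑ D, a D * mk D L := by
    intro L
    unfold M
    rw [← Finset.sum_add_distrib]
    exact Finset.sum_congr rfl (fun D _ => by rw [add_mul])
  have hval : ∀ L : Subgroup Γ, T L → Nat.card L = k →
      (M (fun D => c D + a D) L : ℤ) = G (κ L) := by
    intro L hL hk
    rw [hM]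
    obtain ⟨γ, hγ⟩ := rep_spec L
    have hs : ∑ D, a D * mk D L = a (rep L) * mk (rep L) L := by
      apply Finset.sum_eq_single (rep L)
      · intro D _ hD
        by_cases hc : T D ∧ Nat.card D = k ∧ rep D = D
        · by_cases h0 : mk D L = 0
          · rw [h0, mul_zero]
          · exfalso
            obtain ⟨γ', hγ'⟩ := eq_cjs_of_mk_ne_zero h0 (by rw [hc.2.1, hk])
            apply hD
            rw [← hc.2.2, hγ', rep_cjs]
        · show (if (T D ∧ Nat.card D = k ∧ rep D = D) then m D else 0) * mk D L = 0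
          rw [if_neg hc, zero_mul]
      · intro h; exact absurd (Finset.mem_univ _) h
    have hTr : T (rep L) := by rw [hγ]; exact hTc γ L hL
    have hkr : Nat.card (rep L) = k := by rw [hγ, card_cjs, hk]
    have ha : a (rep L) = m (rep L) := by
      show (if (T (rep L) ∧ Nat.card (rep L) = k ∧ rep (rep L) = rep L) then m (rep L) else 0) = _
      rw [if_pos ⟨hTr, hkr, rep_rep L⟩]
    have h1 := hm (rep L) hTr hkr
    have h2 : mk (rep L) (rep L) = mk (rep L) L := by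
      conv_lhs => rw [hγ]
      rw [mk_cjs, ← hγ]
    have h3 : κ (rep L) = κ L := by rw [hγ, hκ]
    have h4 : M c (rep L) = M c L := by rw [hγ, M_cjs]
    rw [hs, ha]
    push_cast
    rw [← h2, h1, h3, h4]
    ring
  refine ⟨fun D => c D + a D, ?_, ?_, ?_⟩
  · intro D hD
    by_cases hc : T D ∧ Nat.card D = k ∧ rep D = D
    · exact ⟨hc.1, hc.2.1⟩
    · exfalso
      apply hD
      show c D + (if (T D ∧ Nat.card D = k ∧ rep D = D) then m D else 0) = c D
      rw [if_neg hc, add_zero]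
  · intro L hL
    rw [hM]
    have : ∑ D, a D * mk D L = 0 := by
      apply Finset.sum_eq_zero
      intro D _
      by_cases hc : T D ∧ Nat.card D = k ∧ rep D = D
      · by_cases h0 : mk D L = 0
        · rw [h0, mul_zero]
        · exfalso
          have := card_le_of_mk_ne_zero h0
          rw [hc.2.1] at this
          omega
      · show (if (T D ∧ Nat.card D = k ∧ rep D = D) then m D else 0) * mk D L = 0
        rw [if_neg hc, zero_mul]
    rw [this, add_zero]
  · intro L L' hL hL' hk hk' hκL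
    have h1 := hval L hL hk
    have h2 := hval L' hL' hk'
    rw [hκL, ← h2] at h1
    exact_mod_cast h1

/-- Existence of a stable coefficient function, by downward induction on the order. -/
theorem exists_stable [Finite Γ] {K : Type*} (T : Subgroup Γ → Prop)
    (hTc : ∀ (γ : Γ) (D : Subgroup Γ), T D → T (cjs γ D))
    (κ : Subgroup Γ → K) (hκ : ∀ (γ : Γ) (D : Subgroup Γ), κ (cjs γ D) = κ D)
    (n : ℕ) (c₀ : Subgroup Γ → ℕ) (hc₀ : ∀ D, c₀ D ≠ 0 → T D)
    (hbase : ∀ L L' : Subgroup Γ, T L → T L' → n ≤ Nat.card L → Nat.card L = Nat.card L' →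
      κ L = κ L' → M c₀ L = M c₀ L')
    (hKL : ∀ (c : Subgroup Γ → ℕ) (k : ℕ), k < n → (∀ D, c D ≠ 0 → T D) →
      (∀ L L' : Subgroup Γ, T L → T L' → k < Nat.card L → Nat.card L = Nat.card L' →
        κ L = κ L' → M c L = M c L') →
      ∀ κ₀ : K, ∃ G₀ : ℤ, ∀ E : Subgroup Γ, T E → Nat.card E = k → κ E = κ₀ →
        (mk E E : ℤ) ∣ (M c E : ℤ) - G₀) :
    ∃ c : Subgroup Γ → ℕ, (∀ D, c D ≠ 0 → T D) ∧ (∀ D : Subgroup Γ, n ≤ Nat.card D → c D = c₀ D) ∧
      ∀ L L' : Subgroup Γ, T L → T L' → Nat.card L = Nat.card L' → κ L = κ L' →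
        M c L = M c L' := by
  have key : ∀ j : ℕ, ∃ c : Subgroup Γ → ℕ, (∀ D, c D ≠ 0 → T D) ∧
      (∀ D : Subgroup Γ, n ≤ Nat.card D → c D = c₀ D) ∧
      ∀ L L' : Subgroup Γ, T L → T L' → n - j ≤ Nat.card L → Nat.card L = Nat.card L' →
        κ L = κ L' → M c L = M c L' := by
    intro j
    induction j with
    | zero => exact ⟨c₀, hc₀, fun _ _ => rfl, fun L L' hL hL' h => hbase L L' hL hL' (by simpa using h)⟩
    | succ j ih =>
      obtain ⟨c, h1, h2, h3⟩ := ih
      by_cases hj : n - j = 0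
      · refine ⟨c, h1, h2, fun L L' hL hL' _ => h3 L L' hL hL' (by omega)⟩
      · have hk : n - (j + 1) < n := by omega
        obtain ⟨c', g1, g2, g3⟩ := step T hTc κ hκ c (n - (j + 1))
          (hKL c (n - (j + 1)) hk h1 (fun L L' hL hL' h => h3 L L' hL hL' (by omega)))
        refine ⟨c', ?_, ?_, ?_⟩
        · intro D hD
          by_cases hcD : c' D = c D
          · exact h1 D (by rwa [← hcD])
          · exact (g1 D hcD).1
        · intro D hD
          by_cases hcD : c' D = c D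
          · rw [hcD]; exact h2 D hD
          · have := (g1 D hcD).2
            omega
        · intro L L' hL hL' hle hcard hκL
          rcases Nat.lt_or_ge (n - (j + 1)) (Nat.card L) with hlt | hge
          · rw [g2 L hlt, g2 L' (by rwa [← hcard])]
            exact h3 L L' hL hL' (by omega) hcard hκL
          · have hkL : Nat.card L = n - (j + 1) := le_antisymm hge hle
            exact g3 L L' hL hL' hkL (by rw [← hcard, hkL]) hκL
  obtain ⟨c, h1, h2, h3⟩ := key n
  exact ⟨c, h1, h2, fun L L' hL hL' => h3 L L' hL hL' (by simp)⟩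

end Cfsg.Agent.Lib.Helper90.Marks
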