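import Cfsg.Agent.Lib.Helper90.Biset.TateT

set_option autoImplicit false
set_option linter.style.haveILetI false

namespace Cfsg.Agent.Lib.Helper90.Biset

open Cfsg Cfsg.FusionSystem Cfsg.Agent.Lib.Helper87 Cfsg.Agent.Lib.Helper90.Marks
open scoped commutatorElement

variable {Ω : Type*} [Group Ω] {S : Subgroup Ω}

/-- **Theorem T'.** The hyperfocal subgroup is complemented modulo `[hyp, S]` by a normal subgroup
with abelian quotient. -/
theorem tate_complement [Finite S] {p : ℕ} [Fact p.Prime] (hS : IsPGroup p S) (F : FusionSystem S)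
    (hF : F.IsSaturated p) :
    ∃ K : Subgroup Ω, K ≤ S ∧ ⁅S, S⁆ ≤ K ∧
      F.hyperfocalSubgroup p ⊓ K = ⁅F.hyperfocalSubgroup p, S⁆ ∧
      F.hyperfocalSubgroup p ⊔ K = S := by
  classical
  have hHyS : F.hyperfocalSubgroup p ≤ S := hyperfocal_le F p
  set H : Subgroup ↥S := (F.hyperfocalSubgroup p).subgroupOf S with hHdef
  haveI hHn : H.Normal := ⟨fun h hh v => hyperfocal_conj_mem F p v.2 hh⟩
  set C : Subgroup ↥S := ⁅H, (⊤ : Subgroup ↥S)⁆ with hCdef
  have hCH : C ≤ H := Subgroup.commutator_le_left H ⊤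
  let θ₀ : ↥H →* (Abelianization ↥H ⧸ (C.subgroupOf H).map Abelianization.of) :=
    (QuotientGroup.mk' _).comp Abelianization.of
  have hsurj : Function.Surjective θ₀ :=
    (QuotientGroup.mk'_surjective _).comp (QuotientGroup.mk_surjective (s := commutator ↥H))
  have hker : ∀ x : ↥H, θ₀ x = 1 ↔ (x : ↥S) ∈ C := by
    intro x
    have h1 : θ₀ x = 1 ↔ Abelianization.of x ∈ (C.subgroupOf H).map Abelianization.of :=
      QuotientGroup.eq_one_iff _
    rw [h1]
    constructor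
    · rintro ⟨m, hm, hmx⟩
      have h2 : m⁻¹ * x ∈ (Abelianization.of : ↥H →* Abelianization ↥H).ker := by
        rw [MonoidHom.mem_ker, map_mul, map_inv, hmx, inv_mul_cancel]
      rw [Abelianization.ker_of] at h2
      have h3 : ((m⁻¹ * x : ↥H) : ↥S) ∈ ⁅H, H⁆ := by
        rw [← Subgroup.map_subtype_commutator]
        exact ⟨_, h2, rfl⟩
      have h4 : ((m⁻¹ * x : ↥H) : ↥S) ∈ C := Subgroup.commutator_mono le_rfl le_top h3
      have h5 : (x : ↥S) = (m : ↥S) * ((m⁻¹ * x : ↥H) : ↥S) := by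
        show (x : ↥S) = (m : ↥S) * ((m : ↥S)⁻¹ * (x : ↥S))
        group
      rw [h5]
      exact C.mul_mem hm h4
    · intro hx
      exact ⟨x, hx, rfl⟩
  let θ : ↥S → (Abelianization ↥H ⧸ (C.subgroupOf H).map Abelianization.of) :=
    fun s => if h : s ∈ H then θ₀ ⟨s, h⟩ else 1
  have hθ : ∀ (s : ↥S) (h : s ∈ H), θ s = θ₀ ⟨s, h⟩ := fun s h => dif_pos h
  obtain ⟨n, τ, hn, hτ⟩ := T_core hS F hF θ
    (by
      intro h hh h' hh'
      rw [hθ _ (H.mul_mem hh hh'), hθ _ hh, hθ _ hh', ← map_mul]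
      rfl)
    (by
      intro h hh v
      rw [hθ _ (hHn.conj_mem h hh v), hθ _ hh]
      have h1 : θ₀ ((⟨h, hh⟩ : ↥H)⁻¹ * ⟨v * h * v⁻¹, hHn.conj_mem h hh v⟩) = 1 := by
        rw [hker]
        show h⁻¹ * (v * h * v⁻¹) ∈ C
        have h2 : ⁅h⁻¹, v⁆ ∈ C :=
          Subgroup.commutator_mem_commutator (H.inv_mem hh) (Subgroup.mem_top v)
        rw [commutatorElement_def, inv_inv] at h2
        have e : h⁻¹ * (v * h * v⁻¹) = h⁻¹ * v * h * v⁻¹ := by group
        rw [e]; exact h2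
      rw [map_mul, map_inv, inv_mul_eq_one] at h1
      exact h1.symm)
  have hA : IsPGroup p (Abelianization ↥H ⧸ (C.subgroupOf H).map Abelianization.of) :=
    (hS.to_subgroup H).of_surjective θ₀ hsurj
  have hC : ⁅F.hyperfocalSubgroup p, S⁆ = C.map S.subtype := by
    rw [hCdef, Subgroup.map_commutator, hHdef, Subgroup.subgroupOf_map_subtype,
      inf_eq_left.2 hHyS, ← MonoidHom.range_eq_map, Subgroup.range_subtype]
  have hpow : ∀ a : Abelianization ↥H ⧸ (C.subgroupOf H).map Abelianization.of,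
      a ^ n = 1 → a = 1 := by
    intro a ha
    obtain ⟨j, hj⟩ := hA a
    have h1 := orderOf_dvd_of_pow_eq_one ha
    have h2 := orderOf_dvd_of_pow_eq_one hj
    have hcop : Nat.Coprime (p ^ j) n :=
      Nat.Coprime.pow_left _ ((Nat.Prime.coprime_iff_not_dvd Fact.out).2 hn)
    exact orderOf_eq_one_iff.1 (Nat.eq_one_of_dvd_coprimes hcop h2 h1)
  refine ⟨τ.ker.map S.subtype, Subgroup.map_subtype_le _, ?_, ?_, ?_⟩
  · rw [← Subgroup.map_subtype_commutator]
    exact Subgroup.map_mono (Abelianization.commutator_subset_ker τ)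
  · rw [hC]
    ext x
    constructor
    · rintro ⟨hx1, ⟨k, hk, rfl⟩⟩
      have hkH : k ∈ H := hx1
      have h1 : τ k = 1 := hk
      rw [hτ k hkH] at h1
      have h2 := hpow _ h1
      rw [inv_eq_one, hθ k hkH, hker] at h2
      exact ⟨k, h2, rfl⟩
    · rintro ⟨z, hz, rfl⟩
      have hzH : z ∈ H := hCH hz
      refine ⟨hzH, ⟨z, ?_, rfl⟩⟩
      show τ z = 1
      rw [hτ z hzH, hθ z hzH, (hker ⟨z, hzH⟩).2 hz, inv_one, one_pow]
  · apply le_antisymm (sup_le hHyS (Subgroup.map_subtype_le _))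
    intro s hs
    obtain ⟨b, hb⟩ := (hA.powEquiv' hn).surjective (τ ⟨s, hs⟩)
    have hb' : b ^ n = τ ⟨s, hs⟩ := hb
    obtain ⟨h, hh⟩ := hsurj b⁻¹
    have h1 : τ (h : ↥S) = τ ⟨s, hs⟩ := by
      rw [hτ _ h.2, hθ _ h.2]
      show (θ₀ h)⁻¹ ^ n = _
      rw [hh, inv_inv, hb']
    have h2 : s = ((h : ↥S) : Ω) * (((h : ↥S)⁻¹ * ⟨s, hs⟩ : ↥S) : Ω) := by
      show s = ((h : ↥S) : Ω) * (((h : ↥S) : Ω)⁻¹ * s)
      group
    rw [h2]
    apply Subgroup.mul_mem_sup
    · exact h.2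
    · refine ⟨(h : ↥S)⁻¹ * ⟨s, hs⟩, ?_, rfl⟩
      show τ _ = 1
      rw [map_mul, map_inv, h1, inv_mul_cancel]

end Cfsg.Agent.Lib.Helper90.Biset
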