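import Cfsg.Agent.Lib.Helper90.Biset.Transfer
import Cfsg.Agent.Lib.Helper40.HypRungs
import Cfsg.Agent.Lib.Helper87.StronglyClosed

set_option autoImplicit false
set_option linter.style.haveILetI false

namespace Cfsg.Agent.Lib.Helper90.Cyc

variable {G : Type*} {A : Type*} [Group G] [CommGroup A]

theorem cyc_congr [Finite G] (Q : Subgroup G) (ψ ψ' : G → A) (y : G)
    (h : ∀ (k : ℕ) (u : G), u⁻¹ * y ^ k * u ∈ Q → ψ (u⁻¹ * y ^ k * u) = ψ' (u⁻¹ * y ^ k * u)) :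
    cyc Q ψ y = cyc Q ψ' y := by
  unfold cyc
  apply Finset.prod_congr rfl
  intro q _
  exact h _ _ (QuotientGroup.out_conj_pow_minimalPeriod_mem Q y q.out)

theorem cyc_mul [Finite G] (Q : Subgroup G) (ψ ψ' : G → A) (y : G) :
    cyc Q (fun z => ψ z * ψ' z) y = cyc Q ψ y * cyc Q ψ' y := by
  unfold cyc
  exact Finset.prod_mul_distrib

end Cfsg.Agent.Lib.Helper90.Cyc

namespace Cfsg.Agent.Lib.Helper90.Biset

open Cfsg Cfsg.FusionSystem Cfsg.Agent.Lib.Helper87 Cfsg.Agent.Lib.Helper90.Marks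

variable {Ω : Type*} [Group Ω] {S : Subgroup Ω}

/-- **Theorem T (core).** A label on the hyperfocal subgroup which is multiplicative and invariant
under `S` extends, up to a power prime to `p`, to a homomorphism of `S`. -/
theorem T_core [Finite S] {p : ℕ} [Fact p.Prime] (hS : IsPGroup p S) (F : FusionSystem S)
    (hF : F.IsSaturated p) {A : Type*} [CommGroup A] [Finite A] (θ : ↥S → A)
    (hl1 : ∀ h ∈ (F.hyperfocalSubgroup p).subgroupOf S,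
      ∀ h' ∈ (F.hyperfocalSubgroup p).subgroupOf S, θ (h * h') = θ h * θ h')
    (hl2 : ∀ h ∈ (F.hyperfocalSubgroup p).subgroupOf S, ∀ v : ↥S, θ (v * h * v⁻¹) = θ h) :
    ∃ (n : ℕ) (τ : ↥S →* A), ¬ p ∣ n ∧
      ∀ h ∈ (F.hyperfocalSubgroup p).subgroupOf S, τ h = (θ h)⁻¹ ^ n := by
  classical
  haveI : Fintype (Subgroup (↥S × ↥S)) := Fintype.ofFinite _
  obtain ⟨c, hc, hdeg, hst⟩ := exists_biset hS F hF
  set H : Subgroup ↥S := (F.hyperfocalSubgroup p).subgroupOf S with hHdef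
  haveI hHn : H.Normal := ⟨fun h hh v => hyperfocal_conj_mem F p v.2 hh⟩
  have hsc := (stronglyClosed_iff F _).1 (hyperfocal_stronglyClosed hS hF)
  have hconj' : ∀ h ∈ H, ∀ v : ↥S, v⁻¹ * h * v ∈ H := by
    intro h hh v
    have := hHn.conj_mem h hh v⁻¹
    rwa [inv_inv] at this
  have hl2' : ∀ h ∈ H, ∀ v : ↥S, θ (v⁻¹ * h * v) = θ h := by
    intro h hh v
    have := hl2 h hh v⁻¹
    rwa [inv_inv] at this
  have hθ1 : θ 1 = 1 := by
    have := hl1 1 H.one_mem 1 H.one_mem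
    rw [mul_one] at this
    exact (mul_eq_left.1 this.symm)
  have hθinv : ∀ h ∈ H, θ h⁻¹ = (θ h)⁻¹ := by
    intro h hh
    have := hl1 h hh h⁻¹ (H.inv_mem hh)
    rw [mul_inv_cancel, hθ1] at this
    exact (eq_inv_of_mul_eq_one_right this.symm)
  have hθpow : ∀ h ∈ H, ∀ k : ℕ, θ (h ^ k) = θ h ^ k := by
    intro h hh k
    induction k with
    | zero => rw [pow_zero, pow_zero, hθ1]
    | succ k ih => rw [pow_succ, pow_succ, hl1 _ (H.pow_mem hh k) _ hh, ih]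
  have hHc : ∀ D, IsTw F D → ∀ r ∈ Qf D, r ∈ H → phi D r ∈ H := by
    intro D hD r hr hrH
    obtain ⟨b, hb, hb'⟩ := hD.exists_mor
    have := hsc.2 _ b hb r ⟨r, hr, rfl⟩ hrH
    rw [hb' r hr] at this
    exact this
  -- the conjugating elements
  have hu : ∀ D : Subgroup (↥S × ↥S), ∃ u : ↥S, IsTw F D → ∀ r ∈ Qf D,
      r⁻¹ * (u⁻¹ * phi D r * u) ∈ H := by
    intro D
    by_cases hD : IsTw F D
    · obtain ⟨b, hb, hb'⟩ := hD.exists_mor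
      obtain ⟨u, huS, hu⟩ := Cfsg.Agent.Lib.Helper40.exists_conj_mod_hyperfocal hS hF hb
      refine ⟨⟨u, huS⟩, fun _ r hr => ?_⟩
      have h1 := hu r ⟨r, hr, rfl⟩
      rw [hb' r hr] at h1
      have h2 : ((⟨u, huS⟩ : ↥S) * r * (⟨u, huS⟩ : ↥S)⁻¹)⁻¹ * phi D r ∈ H := h1
      have h3 := hconj' _ h2 ⟨u, huS⟩
      have h4 : (⟨u, huS⟩ : ↥S)⁻¹ * (((⟨u, huS⟩ : ↥S) * r * (⟨u, huS⟩ : ↥S)⁻¹)⁻¹ * phi D r)
          * (⟨u, huS⟩ : ↥S) = r⁻¹ * ((⟨u, huS⟩ : ↥S)⁻¹ * phi D r * ⟨u, huS⟩) := by group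
      rwa [h4] at h3
    · exact ⟨1, fun h => absurd h hD⟩
  choose u hu using hu
  let ψ : Subgroup (↥S × ↥S) → ↥S → A := fun D r => θ (r⁻¹ * ((u D)⁻¹ * phi D r * u D))
  obtain ⟨τ, hτ⟩ := Cyc.exists_hom_cyc (fun D : Subgroup (↥S × ↥S) => Qf D) ψ c (by
    intro D hD r hr r' hr'
    have hD' := hc D hD
    show θ ((r * r')⁻¹ * ((u D)⁻¹ * phi D (r * r') * u D))
      = θ (r⁻¹ * ((u D)⁻¹ * phi D r * u D)) * θ (r'⁻¹ * ((u D)⁻¹ * phi D r' * u D))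
    rw [hD'.phi_mul hr hr']
    have e : (r * r')⁻¹ * ((u D)⁻¹ * (phi D r * phi D r') * u D)
        = (r'⁻¹ * (r⁻¹ * ((u D)⁻¹ * phi D r * u D)) * r') * (r'⁻¹ * ((u D)⁻¹ * phi D r' * u D)) := by
      group
    rw [e, hl1 _ (hconj' _ (hu D hD' r hr) r') _ (hu D hD' r' hr'), hl2' _ (hu D hD' r hr) r'])
  set n : ℕ := ∑ D, c D * (D.map (MonoidHom.fst ↥S ↥S)).index with hn
  let E : ↥S → A := fun y => ∏ D, Cyc.cyc (Qf D) (θ ∘ phi D) y ^ c D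
  -- evaluation on `H`
  have heval : ∀ h ∈ H, τ h = (θ h)⁻¹ ^ n * E h := by
    intro h hh
    rw [hτ, hn, ← Finset.prod_pow_eq_pow_sum]
    show _ = _ * ∏ D, Cyc.cyc (Qf D) (θ ∘ phi D) h ^ c D
    rw [← Finset.prod_mul_distrib]
    apply Finset.prod_congr rfl
    intro D _
    by_cases hD : c D = 0
    · rw [hD, pow_zero, zero_mul, pow_zero, pow_zero, one_mul]
    have hD' := hc D hD
    rw [mul_comm (c D), pow_mul, ← mul_pow]
    congr 1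
    have hz : ∀ (k : ℕ) (v : ↥S), v⁻¹ * h ^ k * v ∈ H := fun k v =>
      hconj' _ (H.pow_mem hh k) v
    rw [← Cfsg.Agent.Lib.Helper40.cyc_eq_pow (Qf D) (fun z => (θ z)⁻¹) h (θ h)⁻¹ (by
      intro k v _
      show (θ (v⁻¹ * h ^ k * v))⁻¹ = _
      rw [hl2' _ (H.pow_mem hh k) v, hθpow h hh k, inv_pow]), ← Cyc.cyc_mul]
    apply Cyc.cyc_congr
    intro k v hv
    show θ ((v⁻¹ * h ^ k * v)⁻¹ * ((u D)⁻¹ * phi D (v⁻¹ * h ^ k * v) * u D))
      = (θ (v⁻¹ * h ^ k * v))⁻¹ * θ (phi D (v⁻¹ * h ^ k * v))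
    have h1 := hHc D hD' _ hv (hz k v)
    rw [hl1 _ (H.inv_mem (hz k v)) _ (hconj' _ h1 (u D)), hθinv _ (hz k v), hl2' _ h1 (u D)]
  -- `E` is multiplicative on `H`
  have hE : ∀ h ∈ H, E h = τ h * θ h ^ n := by
    intro h hh
    rw [heval h hh, inv_pow]
    rw [mul_comm, ← mul_assoc, mul_inv_cancel, one_mul]
  have hEmul : ∀ h ∈ H, ∀ h' ∈ H, E (h * h') = E h * E h' := by
    intro h hh h' hh'
    rw [hE _ (H.mul_mem hh hh'), hE h hh, hE h' hh', map_mul, hl1 h hh h' hh', mul_pow]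
    exact mul_mul_mul_comm _ _ _ _
  have hE1 : E 1 = 1 := by
    rw [hE 1 H.one_mem, map_one, hθ1, one_pow, one_mul]
  have hEinv : ∀ h ∈ H, E h⁻¹ = (E h)⁻¹ := by
    intro h hh
    have := hEmul h hh h⁻¹ (H.inv_mem hh)
    rw [mul_inv_cancel, hE1] at this
    exact (eq_inv_of_mul_eq_one_right this.symm)
  -- `E` is trivial on `H`
  let KE : Subgroup Ω :=
    { carrier := {x | ∃ hx : x ∈ S, (⟨x, hx⟩ : ↥S) ∈ H ∧ E ⟨x, hx⟩ = 1}
      mul_mem' := by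
        rintro x y ⟨hx, hx1, hx2⟩ ⟨hy, hy1, hy2⟩
        refine ⟨S.mul_mem hx hy, H.mul_mem hx1 hy1, ?_⟩
        have := hEmul _ hx1 _ hy1
        rw [hx2, hy2, one_mul] at this
        exact this
      one_mem' := ⟨S.one_mem, H.one_mem, hE1⟩
      inv_mem' := by
        rintro x ⟨hx, hx1, hx2⟩
        refine ⟨S.inv_mem hx, H.inv_mem hx1, ?_⟩
        have := hEinv _ hx1
        rw [hx2, inv_one] at this
        exact this }
  have hKE : F.hyperfocalSubgroup p ≤ KE := by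
    refine (Cfsg.Agent.Lib.Helper40.hyperfocal_le_closure_self hS F).trans ?_
    rw [Subgroup.closure_le]
    rintro _ ⟨y, f, hy, hf, rfl⟩
    have hyS : y ∈ S := hsc.1 hy
    have hfy : f y ∈ F.hyperfocalSubgroup p := hsc.2 _ f hf y (Subgroup.mem_zpowers y) hy
    have hfyS : f y ∈ S := hsc.1 hfy
    have h1 : E ⟨y, hyS⟩ = E ⟨f y, hfyS⟩ :=
      stab c hc hst θ H hHc hl1 hl2 ⟨y, hyS⟩ ⟨f y, hfyS⟩ hy hfy hf (Subgroup.mem_zpowers y) rfl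
    refine ⟨S.mul_mem (S.inv_mem hyS) hfyS, H.mul_mem (H.inv_mem (show (⟨y, hyS⟩ : ↥S) ∈ H from hy))
      (show (⟨f y, hfyS⟩ : ↥S) ∈ H from hfy), ?_⟩
    have h2 := hEmul (⟨y, hyS⟩ : ↥S)⁻¹ (H.inv_mem (show (⟨y, hyS⟩ : ↥S) ∈ H from hy)) ⟨f y, hfyS⟩ hfy
    rw [hEinv _ (show (⟨y, hyS⟩ : ↥S) ∈ H from hy), h1, inv_mul_cancel] at h2
    exact h2
  refine ⟨n, τ, hdeg, fun h hh => ?_⟩
  obtain ⟨_, _, h3⟩ := hKE hh
  rw [heval h hh]
  have : E h = 1 := h3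
  rw [this, mul_one]

end Cfsg.Agent.Lib.Helper90.Biset
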