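import Cfsg.Agent.Lib.Helper90.Biset.KL

set_option autoImplicit false
set_option linter.style.haveILetI false

namespace Cfsg.Agent.Lib.Helper90.Biset

open Cfsg Cfsg.FusionSystem Cfsg.Agent.Lib.Helper87 Cfsg.Agent.Lib.Helper90.Marks

variable {Ω : Type*} [Group Ω] {S : Subgroup Ω}

/-- The graph of an automorphism of `S`. -/
noncomputable def gr (α : MulAut ↥S) : Subgroup (↥S × ↥S) := tw S S (autFun α)

theorem mem_gr {F : FusionSystem S} {α : MulAut ↥S} (hα : α ∈ F.autGroup S) (g : ↥S × ↥S) :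
    g ∈ gr α ↔ g.1 = α g.2 := by
  have h := (mem_autGroup_iff F le_rfl α).1 hα
  rw [gr, mem_tw h, autFun_coe]
  constructor
  · rintro ⟨_, h2⟩; exact Subtype.ext h2
  · intro h2; exact ⟨g.2.2, congrArg Subtype.val h2⟩

theorem isTw_gr {F : FusionSystem S} {α : MulAut ↥S} (hα : α ∈ F.autGroup S) : IsTw F (gr α) :=
  ⟨S, autFun α, (mem_autGroup_iff F le_rfl α).1 hα, rfl⟩

theorem card_gr {F : FusionSystem S} {α : MulAut ↥S} (hα : α ∈ F.autGroup S) :
    Nat.card (gr α) = Nat.card S := card_tw ((mem_autGroup_iff F le_rfl α).1 hα)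

/-- A twisted diagonal of full order is a graph. -/
theorem exists_gr_of_card [Finite S] {F : FusionSystem S} {D : Subgroup (↥S × ↥S)}
    (h : IsTw F D) (hc : Nat.card S ≤ Nat.card D) : ∃ α ∈ F.autGroup S, D = gr α := by
  obtain ⟨U, a, ha, rfl⟩ := h
  rw [card_tw ha] at hc
  have hU : U = S := Subgroup.eq_of_le_of_card_ge ha.le hc
  subst hU
  obtain ⟨α, hα, hα'⟩ := (ha.iso_self (fun x hx => ha.mem hx)).exists_aut
  refine ⟨α, hα, ?_⟩
  apply tw_congr
  intro x hx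
  rw [autFun_apply α hx, hα']

theorem map_gr {F : FusionSystem S} {α β : MulAut ↥S} (hα : α ∈ F.autGroup S)
    (hβ : β ∈ F.autGroup S) :
    (gr α).map (MulEquiv.prodCongr β (MulEquiv.refl ↥S)).toMonoidHom = gr (β * α) := by
  ext g
  rw [mem_gr ((F.autGroup S).mul_mem hβ hα)]
  constructor
  · rintro ⟨x, hx, rfl⟩
    have := (mem_gr hα x).1 hx
    show β x.1 = β (α x.2)
    rw [this]
  · intro hg
    refine ⟨(α g.2, g.2), (mem_gr hα _).2 rfl, ?_⟩
    exact Prod.ext hg.symm rfl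

theorem gr_mul_conj {F : FusionSystem S} {α i : MulAut ↥S} (hα : α ∈ F.autGroup S)
    (hi : i ∈ autInducedBy S S) : ∃ γ : ↥S × ↥S, gr (α * i) = cjs γ (gr α) := by
  obtain ⟨t, ht, hit⟩ := (mem_autInducedBy_iff S S i).1 hi
  have hiA : i ∈ F.autGroup S := autInducedBy_le_autGroup F le_rfl hi
  refine ⟨(1, (⟨t, ht⟩ : ↥S)⁻¹), ?_⟩
  ext g
  rw [mem_gr ((F.autGroup S).mul_mem hα hiA), mem_cjs, mem_gr hα]
  have h1 : i g.2 = ⟨t, ht⟩ * g.2 * (⟨t, ht⟩ : ↥S)⁻¹ := Subtype.ext (hit g.2)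
  show g.1 = α (i g.2) ↔ (1 : ↥S)⁻¹ * g.1 * 1 = α (((⟨t, ht⟩ : ↥S)⁻¹)⁻¹ * g.2 * (⟨t, ht⟩ : ↥S)⁻¹)
  rw [h1]
  simp

/-- The top coefficient function. -/
noncomputable def c0 (F : FusionSystem S) (D : Subgroup (↥S × ↥S)) : ℕ :=
  Nat.card {q : F.autGroup S ⧸ (autInducedBy S S).subgroupOf (F.autGroup S) //
    gr (q.out : MulAut ↥S) = D}

theorem c0_ne_zero {F : FusionSystem S} {D : Subgroup (↥S × ↥S)} (h : c0 F D ≠ 0) :
    ∃ α ∈ F.autGroup S, D = gr α := by
  have h1 : Nonempty {q : F.autGroup S ⧸ (autInducedBy S S).subgroupOf (F.autGroup S) //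
      gr (q.out : MulAut ↥S) = D} := by
    by_contra hcon
    rw [not_nonempty_iff] at hcon
    exact h Nat.card_of_isEmpty
  obtain ⟨⟨q, hq⟩⟩ := h1
  exact ⟨q.out, q.out.2, hq.symm⟩

variable [Fintype (Subgroup (↥S × ↥S))]

theorem sum_c0 [Finite S] (F : FusionSystem S)
    [Fintype (F.autGroup S ⧸ (autInducedBy S S).subgroupOf (F.autGroup S))]
    (w : Subgroup (↥S × ↥S) → ℕ) :
    ∑ D, c0 F D * w D =
      ∑ q : F.autGroup S ⧸ (autInducedBy S S).subgroupOf (F.autGroup S),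
        w (gr (q.out : MulAut ↥S)) := by
  classical
  have h1 : ∀ D, c0 F D * w D =
      ∑ q : F.autGroup S ⧸ (autInducedBy S S).subgroupOf (F.autGroup S),
        if gr (q.out : MulAut ↥S) = D then w (gr (q.out : MulAut ↥S)) else 0 := by
    intro D
    rw [← Finset.sum_filter]
    rw [Finset.sum_congr rfl (g := fun _ => w D)
      (fun q hq => by rw [(Finset.mem_filter.1 hq).2])]
    rw [Finset.sum_const, smul_eq_mul, c0, Nat.card_eq_fintype_card, Fintype.card_subtype]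
  rw [Finset.sum_congr rfl (fun D _ => h1 D), Finset.sum_comm]
  apply Finset.sum_congr rfl
  intro q _
  rw [Finset.sum_ite_eq]
  simp

/-- Stability at the top level. -/
theorem M_c0_gr [Finite S] (F : FusionSystem S) {β : MulAut ↥S} (hβ : β ∈ F.autGroup S) :
    M (c0 F) (gr β) = M (c0 F) (gr 1) := by
  classical
  haveI : Fintype (F.autGroup S ⧸ (autInducedBy S S).subgroupOf (F.autGroup S)) :=
    Fintype.ofFinite _
  unfold M
  rw [sum_c0 F (fun D => mk D (gr β)), sum_c0 F (fun D => mk D (gr 1))]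
  have hβ' : β⁻¹ ∈ F.autGroup S := (F.autGroup S).inv_mem hβ
  have h1 : ∀ q : F.autGroup S ⧸ (autInducedBy S S).subgroupOf (F.autGroup S),
      mk (gr (q.out : MulAut ↥S)) (gr β) =
        mk (gr ((((⟨β⁻¹, hβ'⟩ : F.autGroup S) • q).out : F.autGroup S) : MulAut ↥S)) (gr 1) := by
    intro q
    rw [← mk_map_equiv (MulEquiv.prodCongr β⁻¹ (MulEquiv.refl ↥S)) (gr (q.out : MulAut ↥S)) (gr β),
      map_gr q.out.2 hβ', map_gr hβ hβ', inv_mul_cancel]
    obtain ⟨i, hi⟩ := QuotientGroup.mk_out_eq_mul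
      ((autInducedBy S S).subgroupOf (F.autGroup S)) ((⟨β⁻¹, hβ'⟩ : F.autGroup S) * q.out)
    have h2 : ((((⟨β⁻¹, hβ'⟩ : F.autGroup S) * q.out : F.autGroup S)) :
        F.autGroup S ⧸ (autInducedBy S S).subgroupOf (F.autGroup S))
        = (⟨β⁻¹, hβ'⟩ : F.autGroup S) • q := by
      conv_rhs => rw [← QuotientGroup.out_eq' q]
      rfl
    rw [h2] at hi
    rw [hi]
    obtain ⟨γ, hγ⟩ := gr_mul_conj (F := F) (α := β⁻¹ * (q.out : MulAut ↥S))
      (i := ((i : F.autGroup S) : MulAut ↥S)) ((F.autGroup S).mul_mem hβ' q.out.2) i.2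
    show _ = mk (gr (β⁻¹ * (q.out : MulAut ↥S) * ((i : F.autGroup S) : MulAut ↥S))) (gr 1)
    rw [hγ, mk_cjs_left]
  rw [Finset.sum_congr rfl (fun q _ => h1 q)]
  exact Equiv.sum_comp (MulAction.toPerm (⟨β⁻¹, hβ'⟩ : F.autGroup S))
    (fun q : F.autGroup S ⧸ (autInducedBy S S).subgroupOf (F.autGroup S) =>
      mk (gr (q.out : MulAut ↥S)) (gr 1))

theorem sum_c0_eq [Finite S] (F : FusionSystem S) :
    ∑ D, c0 F D = ((autInducedBy S S).subgroupOf (F.autGroup S)).index := by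
  classical
  haveI : Fintype (F.autGroup S ⧸ (autInducedBy S S).subgroupOf (F.autGroup S)) :=
    Fintype.ofFinite _
  have h := sum_c0 F (fun _ => 1)
  simp only [mul_one, Finset.sum_const, smul_eq_mul] at h
  rw [h, Subgroup.index, Nat.card_eq_fintype_card]
  rfl

end Cfsg.Agent.Lib.Helper90.Biset
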