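import Cfsg.Agent.Lib.Helper90.Biset.Step
import Cfsg.Agent.Lib.Helper87.FusionBasic
import Cfsg.Agent.Lib.Helper87.Saturated

set_option autoImplicit false
set_option linter.style.haveILetI false

namespace Cfsg.Agent.Lib.Helper90.Biset

open Cfsg Cfsg.FusionSystem Cfsg.Agent.Lib.Helper87 Cfsg.Agent.Lib.Helper90.Marks

variable {Ω : Type*} [Group Ω] {S : Subgroup Ω}

/-- The twisted diagonal `{(a u, u) : u ∈ U}` in `S × S`. -/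
def tw (S U : Subgroup Ω) (a : Ω → Ω) : Subgroup (↥S × ↥S) :=
  Subgroup.closure {g : ↥S × ↥S | (g.2 : Ω) ∈ U ∧ (g.1 : Ω) = a g.2}

theorem mem_tw {F : FusionSystem S} {U : Subgroup Ω} {a : Ω → Ω} (h : Mor F U a)
    (g : ↥S × ↥S) : g ∈ tw S U a ↔ (g.2 : Ω) ∈ U ∧ (g.1 : Ω) = a g.2 := by
  let T : Subgroup (↥S × ↥S) :=
    { carrier := {g : ↥S × ↥S | (g.2 : Ω) ∈ U ∧ (g.1 : Ω) = a g.2}
      mul_mem' := by
        rintro x y ⟨hx, hx'⟩ ⟨hy, hy'⟩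
        refine ⟨U.mul_mem hx hy, ?_⟩
        show (x.1 : Ω) * (y.1 : Ω) = a ((x.2 : Ω) * (y.2 : Ω))
        rw [h.map_mul hx hy, hx', hy']
      one_mem' := ⟨U.one_mem, h.map_one.symm⟩
      inv_mem' := by
        rintro x ⟨hx, hx'⟩
        refine ⟨U.inv_mem hx, ?_⟩
        show (x.1 : Ω)⁻¹ = a ((x.2 : Ω)⁻¹)
        rw [h.map_inv hx, hx'] }
  have : tw S U a = T := Subgroup.closure_eq T
  rw [this]
  exact Iff.rfl

theorem tw_congr {U : Subgroup Ω} {a a' : Ω → Ω} (h : ∀ x ∈ U, a x = a' x) :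
    tw S U a = tw S U a' := by
  unfold tw
  congr 1
  ext g
  constructor
  · rintro ⟨h1, h2⟩; exact ⟨h1, by rw [h2, h _ h1]⟩
  · rintro ⟨h1, h2⟩; exact ⟨h1, by rw [h2, h _ h1]⟩

/-- `D` is a twisted diagonal of the system. -/
def IsTw (F : FusionSystem S) (D : Subgroup (↥S × ↥S)) : Prop :=
  ∃ (U : Subgroup Ω) (a : Ω → Ω), Mor F U a ∧ D = tw S U a

theorem card_tw {F : FusionSystem S} {U : Subgroup Ω} {a : Ω → Ω} (h : Mor F U a) :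
    Nat.card (tw S U a) = Nat.card U := by
  apply Nat.card_congr
  exact
    { toFun := fun g => ⟨(g.1.2 : Ω), ((mem_tw h g.1).1 g.2).1⟩
      invFun := fun u => ⟨(⟨a u, h.mem u.2⟩, ⟨u, h.le u.2⟩), (mem_tw h _).2 ⟨u.2, rfl⟩⟩
      left_inv := by
        rintro ⟨⟨x, y⟩, hg⟩
        apply Subtype.ext
        have := ((mem_tw h _).1 hg).2
        exact Prod.ext (Subtype.ext this.symm) rfl
      right_inv := fun u => rfl }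

/-- Conjugates of twisted diagonals. -/
theorem cjs_tw {F : FusionSystem S} {U : Subgroup Ω} {a : Ω → Ω} (h : Mor F U a)
    (γ : ↥S × ↥S) :
    Mor F (cjs (γ.2 : Ω) U) (fun x => (γ.1 : Ω) * a ((γ.2 : Ω)⁻¹ * x * γ.2) * (γ.1 : Ω)⁻¹) ∧
    cjs γ (tw S U a) =
      tw S (cjs (γ.2 : Ω) U) (fun x => (γ.1 : Ω) * a ((γ.2 : Ω)⁻¹ * x * γ.2) * (γ.1 : Ω)⁻¹) := by
  have hle : cjs (γ.2 : Ω) U ≤ S := by
    intro x hx
    have h1 := h.le (mem_cjs.1 hx)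
    have h2 : x = (γ.2 : Ω) * ((γ.2 : Ω)⁻¹ * x * γ.2) * (γ.2 : Ω)⁻¹ := by group
    rw [h2]
    exact S.mul_mem (S.mul_mem γ.2.2 h1) (S.inv_mem γ.2.2)
  have h1 : Mor F (cjs (γ.2 : Ω) U) (fun x => (γ.2 : Ω)⁻¹ * x * ((γ.2 : Ω)⁻¹)⁻¹) :=
    mor_conj F hle (S.inv_mem γ.2.2)
  have h2 : Mor F (cjs (γ.2 : Ω) U) (a ∘ (fun x => (γ.2 : Ω)⁻¹ * x * ((γ.2 : Ω)⁻¹)⁻¹)) :=
    h1.comp h (fun x hx => by
      show (γ.2 : Ω)⁻¹ * x * ((γ.2 : Ω)⁻¹)⁻¹ ∈ U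
      rw [inv_inv]; exact mem_cjs.1 hx)
  have h3 : Mor F (cjs (γ.2 : Ω) U)
      ((fun x => (γ.1 : Ω) * x * (γ.1 : Ω)⁻¹) ∘ (a ∘ (fun x => (γ.2 : Ω)⁻¹ * x * ((γ.2 : Ω)⁻¹)⁻¹))) :=
    h2.comp (mor_conj F (le_refl S) γ.1.2) (fun x hx => h2.mem hx)
  have h4 : Mor F (cjs (γ.2 : Ω) U)
      (fun x => (γ.1 : Ω) * a ((γ.2 : Ω)⁻¹ * x * γ.2) * (γ.1 : Ω)⁻¹) :=
    h3.congr (fun x _ => by simp)
  refine ⟨h4, ?_⟩
  ext g
  rw [mem_cjs, mem_tw h, mem_tw h4]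
  show ((γ.2 : Ω)⁻¹ * g.2 * γ.2 ∈ U ∧ (γ.1 : Ω)⁻¹ * g.1 * γ.1 = a ((γ.2 : Ω)⁻¹ * g.2 * γ.2)) ↔ _
  rw [mem_cjs]
  constructor
  · rintro ⟨k1, k2⟩
    refine ⟨k1, ?_⟩
    rw [← k2]; group
  · rintro ⟨k1, k2⟩
    refine ⟨k1, ?_⟩
    rw [k2]; group

theorem IsTw.cjs {F : FusionSystem S} {D : Subgroup (↥S × ↥S)} (h : IsTw F D) (γ : ↥S × ↥S) :
    IsTw F (cjs γ D) := by
  obtain ⟨U, a, ha, rfl⟩ := h
  exact ⟨_, _, (cjs_tw ha γ).1, (cjs_tw ha γ).2⟩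

/-- Subgroups of twisted diagonals. -/
theorem IsTw.of_le {F : FusionSystem S} {D D' : Subgroup (↥S × ↥S)} (h : IsTw F D)
    (hle : D' ≤ D) : IsTw F D' := by
  obtain ⟨U, a, ha, rfl⟩ := h
  have hU' : (D'.map (MonoidHom.snd ↥S ↥S)).map S.subtype ≤ U := by
    rintro _ ⟨_, ⟨g, hg, rfl⟩, rfl⟩
    exact ((mem_tw ha g).1 (hle hg)).1
  refine ⟨(D'.map (MonoidHom.snd ↥S ↥S)).map S.subtype, a, ha.mono hU', ?_⟩
  ext g
  rw [mem_tw (ha.mono hU')]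
  constructor
  · intro hg
    exact ⟨⟨g.2, ⟨g, hg, rfl⟩, rfl⟩, ((mem_tw ha g).1 (hle hg)).2⟩
  · rintro ⟨⟨_, ⟨g', hg', rfl⟩, h2⟩, h3⟩
    have h4 : g'.2 = g.2 := Subtype.ext h2
    have h5 := ((mem_tw ha g').1 (hle hg')).2
    have h6 : g' = g := by
      apply Prod.ext _ h4
      apply Subtype.ext
      rw [h5, h3, h4]
    rw [← h6]; exact hg'

theorem map_snd_tw {F : FusionSystem S} {U : Subgroup Ω} {a : Ω → Ω} (h : Mor F U a) :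
    (tw S U a).map (MonoidHom.snd ↥S ↥S) = U.subgroupOf S := by
  ext t
  constructor
  · rintro ⟨g, hg, rfl⟩
    exact ((mem_tw h g).1 hg).1
  · intro ht
    exact ⟨(⟨a t, h.mem ht⟩, t), (mem_tw h _).2 ⟨ht, rfl⟩, rfl⟩

/-- The class invariant: the `S`-class of the second projection. -/
def kap (D : Subgroup (↥S × ↥S)) : Set (Subgroup ↥S) :=
  {V | ∃ t : ↥S, V = cjs t (D.map (MonoidHom.snd ↥S ↥S))}

theorem map_snd_cjs (γ : ↥S × ↥S) (D : Subgroup (↥S × ↥S)) :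
    (cjs γ D).map (MonoidHom.snd ↥S ↥S) = cjs γ.2 (D.map (MonoidHom.snd ↥S ↥S)) := by
  unfold Marks.cjs
  rw [Subgroup.map_map, Subgroup.map_map]
  rfl

theorem kap_cjs (γ : ↥S × ↥S) (D : Subgroup (↥S × ↥S)) : kap (cjs γ D) = kap D := by
  ext V
  unfold kap
  simp only [Set.mem_setOf_eq]
  rw [map_snd_cjs]
  constructor
  · rintro ⟨t, rfl⟩
    exact ⟨t * γ.2, by rw [cjs_cjs]⟩
  · rintro ⟨t, rfl⟩
    exact ⟨t * γ.2⁻¹, by rw [cjs_cjs, inv_mul_cancel_right]⟩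

theorem exists_of_kap_eq {D D' : Subgroup (↥S × ↥S)} (h : kap D = kap D') :
    ∃ t : ↥S, D'.map (MonoidHom.snd ↥S ↥S) = cjs t (D.map (MonoidHom.snd ↥S ↥S)) := by
  have h1 : D'.map (MonoidHom.snd ↥S ↥S) ∈ kap D' := ⟨1, (cjs_one _).symm⟩
  rw [← h] at h1
  exact h1

variable [Fintype (Subgroup (↥S × ↥S))]

/-- A subgroup which is not a twisted diagonal has mark zero. -/
theorem M_eq_zero {F : FusionSystem S} (c : Subgroup (↥S × ↥S) → ℕ)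
    (hc : ∀ D, c D ≠ 0 → IsTw F D) {L : Subgroup (↥S × ↥S)} (hL : ¬ IsTw F L) : M c L = 0 := by
  unfold M
  apply Finset.sum_eq_zero
  intro D _
  by_cases h0 : c D = 0
  · rw [h0, zero_mul]
  by_cases h1 : mk D L = 0
  · rw [h1, mul_zero]
  exfalso
  apply hL
  obtain ⟨γ, hγ⟩ := exists_of_mk_ne_zero h1
  have h2 : L ≤ cjs γ D := by
    intro e he
    exact mem_cjs.2 (hγ e he)
  exact ((hc D h0).cjs γ).of_le h2

end Cfsg.Agent.Lib.Helper90.Biset
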